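import Cfsg.Agent.H0.OON.D
set_option maxRecDepth 100000
set_option Elab.async false
set_option linter.unusedSectionVars false
namespace H0.OON
open H0 BN 
theorem c0 : Model.fixP R [91069, 40617, 54937] [[25]] = true := by decide +kernel
theorem c1 : Model.growP R [[25]] [0] 27886 2 = true := by decide +kernel
theorem c2 : Model.fixP R [40617, 54937] [[23], [24]] = true := by decide +kernel
theorem c3 : Model.growP R [[23], [24]] [0, 1, 0, 1, 0, 1, 0, 1, 0, 1, 0, 1, 0, 1] 91069 336 = true := by decide +kernel
theorem c4 : Model.fixP R [54937] [[21], [22]] = true := by decide +kernel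
theorem c5 : Model.growP R [[21], [22]] [0, 1, 0, 1, 0, 1, 0, 1, 0, 1, 0, 1, 0, 1, 0, 1, 0, 1, 0, 1, 0, 1] 40617 5586 = true := by decide +kernel
theorem c6 : Model.fixP R [] [[19], [20]] = true := by decide +kernel
theorem c7 : Model.growP R [[19], [20]] [0, 1, 0, 1, 0, 1, 0, 1, 0, 1, 0, 1, 0, 1, 0, 1, 0, 1, 0, 1, 0, 1, 0, 1, 0, 1, 0, 1, 0, 0] 54937 122760 = true := by decide +kernel
theorem c8 : cycB R (subst [[16]] []) [54937] = true := by decide +kernel
theorem c9 : cycB R (subst [[16]] [0]) [67380, 27886, 91069, 40617] = true := by decide +kernel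
theorem c10 : cycB R (subst [[16]] [0]) [67380, 27886, 91069, 40617] = true := by decide +kernel
theorem c11 : allL (leafB R xOT (subst [[16]] [0]) [1, 2, 3, 4] [67380, 27886, 91069, 40617] [54937] [54937]) xL11 = true := by decide +kernel
theorem c12 : allL (leafB R xOT (subst [[16]] [0]) [1, 2, 3, 4] [67380, 27886, 91069, 40617] [54937] [54937]) xL12 = true := by decide +kernel
theorem c13 : allL (leafB R xOT (subst [[16]] [0]) [1, 2, 3, 4] [67380, 27886, 91069, 40617] [54937] [54937]) xL13 = true := by decide +kernel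
theorem c14 : allL (leafB R xOT (subst [[16]] [0]) [1, 2, 3, 4] [67380, 27886, 91069, 40617] [54937] [54937]) xL14 = true := by decide +kernel
theorem c15 : allL (leafB R xOT (subst [[16]] [0]) [1, 2, 3, 4] [67380, 27886, 91069, 40617] [54937] [54937]) xL15 = true := by decide +kernel
theorem c16 : allL (leafB R xOT (subst [[16]] [0]) [1, 2, 3, 4] [67380, 27886, 91069, 40617] [54937] [54937]) xL16 = true := by decide +kernel
theorem c17 : allL (leafB R xOT (subst [[16]] [0]) [1, 2, 3, 4] [67380, 27886, 91069, 40617] [54937] [54937]) xL17 = true := by decide +kernel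
theorem c18 : allL (leafB R xOT (subst [[16]] [0]) [1, 2, 3, 4] [67380, 27886, 91069, 40617] [54937] [54937]) xL18 = true := by decide +kernel
theorem c19 : allL (leafB R xOT (subst [[16]] [0]) [1, 2, 3, 4] [67380, 27886, 91069, 40617] [54937] [54937]) xL19 = true := by decide +kernel
theorem c20 : allL (leafB R xOT (subst [[16]] [0]) [1, 2, 3, 4] [67380, 27886, 91069, 40617] [54937] [54937]) xL20 = true := by decide +kernel
theorem c21 : allL (leafB R xOT (subst [[16]] [0]) [1, 2, 3, 4] [67380, 27886, 91069, 40617] [54937] [54937]) xL21 = true := by decide +kernel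
theorem c22 : allL (leafB R xOT (subst [[16]] [0]) [1, 2, 3, 4] [67380, 27886, 91069, 40617] [54937] [54937]) xL22 = true := by decide +kernel
theorem c23 : allL (leafB R xOT (subst [[16]] [0]) [1, 2, 3, 4] [67380, 27886, 91069, 40617] [54937] [54937]) xL23 = true := by decide +kernel
theorem c24 : allL (leafB R xOT (subst [[16]] [0]) [1, 2, 3, 4] [67380, 27886, 91069, 40617] [54937] [54937]) xL24 = true := by decide +kernel
theorem c25 : allL (leafB R xOT (subst [[16]] [0]) [1, 2, 3, 4] [67380, 27886, 91069, 40617] [54937] [54937]) xL25 = true := by decide +kernel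
theorem c26 : allL (leafB R xOT (subst [[16]] [0]) [1, 2, 3, 4] [67380, 27886, 91069, 40617] [54937] [54937]) xL26 = true := by decide +kernel
theorem c27 : allL (leafB R xOT (subst [[16]] [0]) [1, 2, 3, 4] [67380, 27886, 91069, 40617] [54937] [54937]) xL27 = true := by decide +kernel
theorem c28 : allL (leafB R xOT (subst [[16]] [0]) [1, 2, 3, 4] [67380, 27886, 91069, 40617] [54937] [54937]) xL28 = true := by decide +kernel
theorem c29 : allL (leafB R xOT (subst [[16]] [0]) [1, 2, 3, 4] [67380, 27886, 91069, 40617] [54937] [54937]) xL29 = true := by decide +kernel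
theorem c30 : allL (leafB R xOT (subst [[16]] [0]) [1, 2, 3, 4] [67380, 27886, 91069, 40617] [54937] [54937]) xL30 = true := by decide +kernel
theorem c31 : allL (leafB R xOT (subst [[16]] [0]) [1, 2, 3, 4] [67380, 27886, 91069, 40617] [54937] [54937]) xL31 = true := by decide +kernel
theorem c32 : allL (leafB R xOT (subst [[16]] [0]) [1, 2, 3, 4] [67380, 27886, 91069, 40617] [54937] [54937]) xL32 = true := by decide +kernel
theorem c33 : allL (leafB R xOT (subst [[16]] [0]) [1, 2, 3, 4] [67380, 27886, 91069, 40617] [54937] [54937]) xL33 = true := by decide +kernel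
theorem c34 : allL (leafB R xOT (subst [[16]] [0]) [1, 2, 3, 4] [67380, 27886, 91069, 40617] [54937] [54937]) xL34 = true := by decide +kernel
theorem c35 : allL (leafB R xOT (subst [[16]] [0]) [1, 2, 3, 4] [67380, 27886, 91069, 40617] [54937] [54937]) xL35 = true := by decide +kernel
theorem c36 : allL (leafB R xOT (subst [[16]] [0]) [1, 2, 3, 4] [67380, 27886, 91069, 40617] [54937] [54937]) xL36 = true := by decide +kernel
theorem c37 : allL (leafB R xOT (subst [[16]] [0]) [1, 2, 3, 4] [67380, 27886, 91069, 40617] [54937] [54937]) xL37 = true := by decide +kernel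
theorem c38 : allL (leafB R xOT (subst [[16]] [0]) [1, 2, 3, 4] [67380, 27886, 91069, 40617] [54937] [54937]) xL38 = true := by decide +kernel
theorem c39 : allL (leafB R xOT (subst [[16]] [0]) [1, 2, 3, 4] [67380, 27886, 91069, 40617] [54937] [54937]) xL39 = true := by decide +kernel
theorem c40 : allL (leafB R xOT (subst [[16]] [0]) [1, 2, 3, 4] [67380, 27886, 91069, 40617] [54937] [54937]) xL40 = true := by decide +kernel
theorem c41 : allL (leafB R xOT (subst [[16]] [0]) [1, 2, 3, 4] [67380, 27886, 91069, 40617] [54937] [54937]) xL41 = true := by decide +kernel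
theorem c42 : allL (leafB R xOT (subst [[16]] [0]) [1, 2, 3, 4] [67380, 27886, 91069, 40617] [54937] [54937]) xL42 = true := by decide +kernel
theorem c43 : allL (leafB R xOT (subst [[16]] [0]) [1, 2, 3, 4] [67380, 27886, 91069, 40617] [54937] [54937]) xL43 = true := by decide +kernel
theorem c44 : allL (leafB R xOT (subst [[16]] [0]) [1, 2, 3, 4] [67380, 27886, 91069, 40617] [54937] [54937]) xL44 = true := by decide +kernel
theorem c45 : allL (leafB R xOT (subst [[16]] [0]) [1, 2, 3, 4] [67380, 27886, 91069, 40617] [54937] [54937]) xL45 = true := by decide +kernel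
theorem c46 : allL (leafB R xOT (subst [[16]] [0]) [1, 2, 3, 4] [67380, 27886, 91069, 40617] [54937] [54937]) xL46 = true := by decide +kernel
theorem c47 : freeB R xOT [[16]] xCg [0] [54937] [54937] [] 40617 0 [([], 40617, 3)] [[0]] [0, 0, 0, 0, 0, 0, 0, 0, 0, 0, 0, 0, 0, 0, 0, 0, 0, 0] xc47 = true := by decide +kernel
theorem c48 : cycB R (subst [[16]] []) [54937] = true := by decide +kernel
theorem c49 : exclB R (subst [[16]] [0]) 54937 xD0 = true := by decide +kernel
theorem c50 : freeB R xOT [[16]] xCg [] [] [] [] 54937 xD0 [([], 54937, 4)] [[0]] [] xc50 = true := by decide +kernel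
theorem c51 : Model.invB R (Model.cgens (xch.drop 0)) xO4 = true := by decide +kernel
theorem c52 : Model.invB R (Model.cgens (xch.drop 1)) xO3 = true := by decide +kernel
theorem c53 : Model.invB R (Model.cgens (xch.drop 2)) xO2 = true := by decide +kernel
theorem c54 : Model.invB R (Model.cgens (xch.drop 2)) xO1 = true := by decide +kernel
theorem c55 : Model.invB R (Model.cgens (xch.drop 2)) xO0 = true := by decide +kernel
theorem c56 : pairsB R [222, 1, 0] (((xCg.flatMap fun w => [[16]].map fun y => (w ++ y, y ++ w)).drop 0).take 1) = true := by decide +kernel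
theorem c57 : Model.fixP R [22, 65194, 102477, 54937, 39683] [[35]] = true := by decide +kernel
theorem c58 : Model.growP R [[35]] [0] 69367 2 = true := by decide +kernel
theorem c59 : Model.fixP R [65194, 102477, 54937, 39683] [[33], [34]] = true := by decide +kernel
theorem c60 : Model.growP R [[33], [34]] [0] 22 2 = true := by decide +kernel
theorem c61 : Model.fixP R [102477, 54937, 39683] [[30], [31], [32]] = true := by decide +kernel
theorem c62 : Model.growP R [[30], [31], [32]] [1, 2, 0, 1] 65194 8 = true := by decide +kernel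
theorem c63 : Model.fixP R [54937, 39683] [[28], [29]] = true := by decide +kernel
theorem c64 : Model.growP R [[28], [29]] [0, 1, 0, 0, 1, 0, 1, 0] 102477 21 = true := by decide +kernel
theorem c65 : Model.fixP R [39683] [[26], [27]] = true := by decide +kernel
theorem c66 : Model.growP R [[26], [27]] [0, 1, 0, 1, 0, 1, 0, 1, 0, 1, 0, 1, 0, 1, 0, 1, 0, 1, 0, 1, 0, 0] 54937 5586 = true := by decide +kernel
theorem c67 : Model.fixP R [] [[19], [20]] = true := by decide +kernel
theorem c68 : Model.growP R [[19], [20]] [0, 1, 0, 1, 0, 1, 0, 1, 0, 1, 0, 1, 0, 1, 0, 1, 0, 1, 0, 1, 0, 1, 0, 1, 0, 1, 0, 1, 0] 39683 122760 = true := by decide +kernel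
theorem c69 : cycB R (subst [[17]] []) [39683] = true := by decide +kernel
theorem c70 : cycB R (subst [[17]] []) [54937] = true := by decide +kernel
theorem c71 : cycB R (subst [[17]] [0]) [10953, 65194, 102477] = true := by decide +kernel
theorem c72 : cycB R (subst [[17]] [0]) [119390, 22] = true := by decide +kernel
theorem c73 : cycB R (subst [[17]] [0]) [79530, 69367] = true := by decide +kernel
theorem c74 : cycB R (subst [[17]] [0]) [79530, 69367] = true := by decide +kernel
theorem c75 : freeB R yOT [[17]] yCg [1, 3, 4, 5, 6] [119390, 22, 10953, 65194, 102477, 54937, 39683] [119390, 22, 10953, 65194, 102477, 54937, 39683] [] 69367 0 [([], 69367, 0)] [[2]] [0] yc75 = true := by decide +kernel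
theorem c76 : cycB R (subst [[17]] [0]) [119390, 22] = true := by decide +kernel
theorem c77 : freeB R yOT [[17]] yCg [1, 2, 3, 4] [10953, 65194, 102477, 54937, 39683] [10953, 65194, 102477, 54937, 39683] [] 22 0 [([], 22, 1)] [[2], [0, 0, 0]] [1] yc77 = true := by decide +kernel
theorem c78 : cycB R (subst [[17]] [0]) [10953, 65194, 102477] = true := by decide +kernel
theorem c79 : exclB R (subst [[17]] [0, 0, 0]) 102477 yD2 = true := by decide +kernel
theorem c80 : freeB R yOT [[17]] yCg [0, 1] [54937, 39683] [54937, 39683] [] 102477 yD2 [([], 102477, 2)] [[0], [2]] [0, 0] yc80 = true := by decide +kernel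
theorem c81 : cycB R (subst [[17]] []) [54937] = true := by decide +kernel
theorem c82 : exclB R (subst [[17]] [0]) 54937 yD1 = true := by decide +kernel
theorem c83 : freeB R yOT [[17]] yCg [0] [39683] [39683] [] 54937 yD1 [([], 54937, 3)] [[0], [2], [1, 1, 1]] [2] yc83 = true := by decide +kernel
theorem c84 : cycB R (subst [[17]] []) [39683] = true := by decide +kernel
theorem c85 : allL (leafB R yOT (subst [[17]] [0]) [1, 3, 4, 5, 6] [119390, 22] [10953, 65194, 102477, 54937, 39683] [93989, 117135, 79748, 24275, 13035]) yL85 = true := by decide +kernel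
theorem c86 : freeB R yOT [[17]] yCg [1, 2, 3, 4] [10953, 65194, 102477, 54937, 39683] [93989, 117135, 79748, 24275, 13035] [31, 32, 28, 28, 29, 28, 27, 27, 27, 27, 26, 26, 27, 27, 27, 26, 27, 26, 20, 20, 19, 19, 20, 20, 20, 19, 20, 20, 20, 19, 20, 20, 20, 20, 20] 22 0 [([], 22, 1)] [[2], [0, 0, 0]] [0] yc86 = true := by decide +kernel
theorem c87 : cycB R (subst [[17]] [0]) [93989, 117135, 79748] = true := by decide +kernel
theorem c88 : freeB R yOT [[17]] yCg [0, 1] [54937, 39683] [24275, 13035] [27, 27, 27, 27, 26, 26, 27, 27, 27, 26, 27, 26, 20, 20, 19, 19, 20, 20, 20, 19, 20, 20, 20, 19, 20, 20, 20, 20, 20] 102477 yD2 [([], 102477, 2)] [[0], [2]] [0, 0] yc88 = true := by decide +kernel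
theorem c89 : cycB R (subst [[17]] []) [24275] = true := by decide +kernel
theorem c90 : allL (leafB R yOT (subst [[17]] [0]) [1, 3, 5, 6, 7, 8] [79530, 69367] [119390, 22, 10953, 65194, 102477, 54937, 39683] [36193, 11697, 102477, 10953, 65194, 42761, 13035]) yL90 = true := by decide +kernel
theorem c91 : freeB R yOT [[17]] yCg [1, 3, 4, 5, 6] [119390, 22, 10953, 65194, 102477, 54937, 39683] [36193, 11697, 102477, 10953, 65194, 42761, 13035] [28, 26, 27, 26, 27, 27, 27, 27, 26, 27, 26, 26, 20, 20, 19, 19, 20, 20, 20, 19, 20, 20, 20, 19, 20, 20, 20, 20, 20] 69367 0 [([], 69367, 0)] [[2]] [0] yc91 = true := by decide +kernel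
theorem c92 : cycB R (subst [[17]] [0]) [36193, 11697] = true := by decide +kernel
theorem c93 : freeB R yOT [[17]] yCg [1, 2, 3, 4] [10953, 65194, 102477, 54937, 39683] [102477, 10953, 65194, 42761, 13035] [28, 26, 27, 26, 27, 27, 27, 27, 26, 27, 26, 26, 20, 20, 19, 19, 20, 20, 20, 19, 20, 20, 20, 19, 20, 20, 20, 20, 20] 22 0 [([], 22, 1)] [[2], [0, 0, 0]] [1] yc93 = true := by decide +kernel
theorem c94 : cycB R (subst [[17]] [0]) [102477, 10953, 65194] = true := by decide +kernel
theorem c95 : allL (leafB R yOT (subst [[17]] [0]) [1, 2, 3, 4] [10953, 65194, 102477] [54937, 39683] [42761, 13035]) yL95 = true := by decide +kernel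
theorem c96 : allL (leafB R yOT (subst [[17]] [0]) [1, 2, 3, 4] [10953, 65194, 102477] [54937, 39683] [42761, 13035]) yL96 = true := by decide +kernel
theorem c97 : freeB R yOT [[17]] yCg [0, 1] [54937, 39683] [42761, 13035] [26, 27, 26, 27, 27, 27, 27, 26, 27, 26, 26, 20, 20, 19, 19, 20, 20, 20, 19, 20, 20, 20, 19, 20, 20, 20, 20, 20] 102477 0 [([], 102477, 2)] [[0], [2]] [0, 1, 0] yc97 = true := by decide +kernel
theorem c98 : cycB R (subst [[17]] []) [42761] = true := by decide +kernel
theorem c99 : freeB R yOT [[17]] yCg [0] [39683] [13035] [20, 20, 19, 19, 20, 20, 20, 19, 20, 20, 20, 19, 20, 20, 20, 20, 20] 54937 yD1 [([], 54937, 3)] [[0], [2]] [] yc99 = true := by decide +kernel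
theorem c100 : cycB R (subst [[17]] []) [13035] = true := by decide +kernel
theorem c101 : exclB R (subst [[17]] [0]) 39683 yD0 = true := by decide +kernel
theorem c102 : freeB R yOT [[17]] yCg [] [] [] [] 39683 yD0 [([], 39683, 8)] [[0], [1], [2]] [1, 1, 1, 1, 1] yc102 = true := by decide +kernel
theorem c103 : Model.invB R (Model.cgens (ych.drop 0)) yO8 = true := by decide +kernel
theorem c104 : Model.invB R (Model.cgens (ych.drop 4)) yO7 = true := by decide +kernel
theorem c105 : Model.invB R (Model.cgens (ych.drop 3)) yO6 = true := by decide +kernel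
theorem c106 : Model.invB R (Model.cgens (ych.drop 6)) yO5 = true := by decide +kernel
theorem c107 : Model.invB R (Model.cgens (ych.drop 5)) yO4 = true := by decide +kernel
theorem c108 : Model.invB R (Model.cgens (ych.drop 1)) yO3 = true := by decide +kernel
theorem c109 : Model.invB R (Model.cgens (ych.drop 2)) yO2 = true := by decide +kernel
theorem c110 : Model.invB R (Model.cgens (ych.drop 4)) yO1 = true := by decide +kernel
theorem c111 : Model.invB R (Model.cgens (ych.drop 5)) yO0 = true := by decide +kernel
theorem c112 : pairsB R [222, 1, 0] (((yCg.flatMap fun w => [[17]].map fun y => (w ++ y, y ++ w)).drop 0).take 3) = true := by decide +kernel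
theorem c113 : pairsB R [222, 1, 0] ((CE.drop 0).take 12) = true := by decide +kernel
theorem c114 : pairsB R [222, 1, 0] ((CE.drop 12).take 8) = true := by decide +kernel
theorem c115 : pairsB R [222, 1, 0] ((CE.drop 20).take 7) = true := by decide +kernel
theorem c116 : pairsB R [222, 1, 0] ((CE.drop 27).take 7) = true := by decide +kernel
theorem c117 : pairsB R [222, 1, 0] ((CE.drop 34).take 6) = true := by decide +kernel
end H0.OON
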