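import Cfsg.Agent.H0.OON.D
set_option maxRecDepth 100000
set_option Elab.async false
set_option linter.unusedSectionVars false
namespace H0.OON
open H0 BN 
theorem c118 : pairsB R [222, 1, 0] ((CE.drop 40).take 5) = true := by decide +kernel
theorem c119 : pairsB R [222, 1, 0] ((CE.drop 45).take 6) = true := by decide +kernel
theorem c120 : pairsB R [222, 1, 0] ((CE.drop 51).take 5) = true := by decide +kernel
theorem c121 : pairsB R [222, 1, 0] ((CE.drop 56).take 4) = true := by decide +kernel
theorem c122 : pairsB R [222, 1, 0] ((CE.drop 60).take 5) = true := by decide +kernel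
theorem c123 : pairsB R [222, 1, 0] ((CE.drop 65).take 4) = true := by decide +kernel
theorem c124 : pairsB R [222, 1, 0] ((CE.drop 69).take 8) = true := by decide +kernel
theorem c125 : pairsB R [222, 1, 0] ((CE.drop 77).take 10) = true := by decide +kernel
end H0.OON
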