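import Cfsg.Agent.H0.OON.D
set_option maxRecDepth 100000
set_option Elab.async false
set_option linter.unusedSectionVars false
namespace H0.OON
open H0 BN 
theorem c192 : allL (elimB R 16 17 18 RL [(1, []), (1, [37, 36, 36, 36])]) ((EL.drop 201).take 4) = true := by decide +kernel
theorem c193 : allL (elimB R 16 17 18 RL [(1, []), (1, [37, 36, 36, 36])]) ((EL.drop 205).take 3) = true := by decide +kernel
theorem c194 : allL (elimB R 16 17 18 RL [(1, []), (1, [37, 36, 36, 36])]) ((EL.drop 208).take 3) = true := by decide +kernel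
theorem c195 : allL (elimB R 16 17 18 RL [(1, []), (1, [37, 36, 36, 36])]) ((EL.drop 211).take 2) = true := by decide +kernel
theorem c196 : allL (elimB R 16 17 18 RL [(1, []), (1, [37, 36, 36, 36])]) ((EL.drop 213).take 3) = true := by decide +kernel
theorem c197 : Model.fpfB R [4, 5] (subst [[38], [39], [40], [41], [42], [43], [44], [45]] [4, 5]) 0 122760 = true := by decide +kernel
theorem c198 : pairsB R [222, 1, 0] ((((H0.MON.B.map (subst [[38], [39], [40], [41], [42], [43], [44], [45]])).map fun r => (r, [])).drop 0).take 17) = true := by decide +kernel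
theorem c199 : pairsB R [222, 1, 0] ((((H0.MON.B.map (subst [[38], [39], [40], [41], [42], [43], [44], [45]])).map fun r => (r, [])).drop 17).take 9) = true := by decide +kernel
theorem c200 : pairsB R [222, 1, 0] ((((H0.MON.B.map (subst [[38], [39], [40], [41], [42], [43], [44], [45]])).map fun r => (r, [])).drop 26).take 4) = true := by decide +kernel
theorem c201 : Model.invB R (Model.cgens xch) (ival 0 122760) = true := by decide +kernel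
theorem c202 : eqW R 0 3 [45] [9, 9, 9, 8, 9, 8, 9, 9, 9, 8, 9, 9, 9, 9, 8, 8, 11, 11, 10, 11, 10, 11, 10, 10, 11, 11, 10, 10, 11, 10, 10, 13, 14, 14, 14, 13, 12] = true := by decide +kernel
theorem c203 : eqW R 3 3 [45] [9, 9, 9, 8, 9, 8, 9, 9, 9, 8, 9, 9, 9, 9, 8, 8, 11, 11, 10, 11, 10, 11, 10, 10, 11, 11, 10, 10, 11, 10, 10, 13, 14, 14, 14, 13, 12] = true := by decide +kernel
theorem c204 : eqW R 6 3 [45] [9, 9, 9, 8, 9, 8, 9, 9, 9, 8, 9, 9, 9, 9, 8, 8, 11, 11, 10, 11, 10, 11, 10, 10, 11, 11, 10, 10, 11, 10, 10, 13, 14, 14, 14, 13, 12] = true := by decide +kernel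
theorem c205 : eqW R 9 3 [45] [9, 9, 9, 8, 9, 8, 9, 9, 9, 8, 9, 9, 9, 9, 8, 8, 11, 11, 10, 11, 10, 11, 10, 10, 11, 11, 10, 10, 11, 10, 10, 13, 14, 14, 14, 13, 12] = true := by decide +kernel
theorem c206 : eqW R 12 3 [45] [9, 9, 9, 8, 9, 8, 9, 9, 9, 8, 9, 9, 9, 9, 8, 8, 11, 11, 10, 11, 10, 11, 10, 10, 11, 11, 10, 10, 11, 10, 10, 13, 14, 14, 14, 13, 12] = true := by decide +kernel
theorem c207 : eqW R 15 2 [45] [9, 9, 9, 8, 9, 8, 9, 9, 9, 8, 9, 9, 9, 9, 8, 8, 11, 11, 10, 11, 10, 11, 10, 10, 11, 11, 10, 10, 11, 10, 10, 13, 14, 14, 14, 13, 12] = true := by decide +kernel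
theorem c208 : eqW R 0 3 [44] [8, 9, 9, 8, 9, 8, 8, 8, 8, 9, 8, 9, 8, 8, 10, 10, 10, 11, 10, 10, 11, 11, 11, 10, 11, 10, 12, 14, 14, 14] = true := by decide +kernel
theorem c209 : eqW R 3 3 [44] [8, 9, 9, 8, 9, 8, 8, 8, 8, 9, 8, 9, 8, 8, 10, 10, 10, 11, 10, 10, 11, 11, 11, 10, 11, 10, 12, 14, 14, 14] = true := by decide +kernel
theorem c210 : eqW R 6 3 [44] [8, 9, 9, 8, 9, 8, 8, 8, 8, 9, 8, 9, 8, 8, 10, 10, 10, 11, 10, 10, 11, 11, 11, 10, 11, 10, 12, 14, 14, 14] = true := by decide +kernel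
theorem c211 : eqW R 9 3 [44] [8, 9, 9, 8, 9, 8, 8, 8, 8, 9, 8, 9, 8, 8, 10, 10, 10, 11, 10, 10, 11, 11, 11, 10, 11, 10, 12, 14, 14, 14] = true := by decide +kernel
theorem c212 : eqW R 12 3 [44] [8, 9, 9, 8, 9, 8, 8, 8, 8, 9, 8, 9, 8, 8, 10, 10, 10, 11, 10, 10, 11, 11, 11, 10, 11, 10, 12, 14, 14, 14] = true := by decide +kernel
theorem c213 : eqW R 15 2 [44] [8, 9, 9, 8, 9, 8, 8, 8, 8, 9, 8, 9, 8, 8, 10, 10, 10, 11, 10, 10, 11, 11, 11, 10, 11, 10, 12, 14, 14, 14] = true := by decide +kernel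
theorem c214 : eqW R 0 3 [43] [9, 8, 9, 9, 9, 9, 8, 8, 9, 9, 9, 9, 8, 9, 9, 9, 11, 10, 10, 11, 10, 11, 11, 10, 10, 11, 11, 11, 10, 11, 11, 10, 13, 14, 14, 14] = true := by decide +kernel
theorem c215 : eqW R 3 3 [43] [9, 8, 9, 9, 9, 9, 8, 8, 9, 9, 9, 9, 8, 9, 9, 9, 11, 10, 10, 11, 10, 11, 11, 10, 10, 11, 11, 11, 10, 11, 11, 10, 13, 14, 14, 14] = true := by decide +kernel
theorem c216 : eqW R 6 3 [43] [9, 8, 9, 9, 9, 9, 8, 8, 9, 9, 9, 9, 8, 9, 9, 9, 11, 10, 10, 11, 10, 11, 11, 10, 10, 11, 11, 11, 10, 11, 11, 10, 13, 14, 14, 14] = true := by decide +kernel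
theorem c217 : eqW R 9 3 [43] [9, 8, 9, 9, 9, 9, 8, 8, 9, 9, 9, 9, 8, 9, 9, 9, 11, 10, 10, 11, 10, 11, 11, 10, 10, 11, 11, 11, 10, 11, 11, 10, 13, 14, 14, 14] = true := by decide +kernel
theorem c218 : eqW R 12 3 [43] [9, 8, 9, 9, 9, 9, 8, 8, 9, 9, 9, 9, 8, 9, 9, 9, 11, 10, 10, 11, 10, 11, 11, 10, 10, 11, 11, 11, 10, 11, 11, 10, 13, 14, 14, 14] = true := by decide +kernel
theorem c219 : eqW R 15 2 [43] [9, 8, 9, 9, 9, 9, 8, 8, 9, 9, 9, 9, 8, 9, 9, 9, 11, 10, 10, 11, 10, 11, 11, 10, 10, 11, 11, 11, 10, 11, 11, 10, 13, 14, 14, 14] = true := by decide +kernel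
theorem c220 : eqW R 0 3 [42] [8, 9, 9, 8, 8, 8, 9, 9, 8, 9, 8, 9, 9, 8, 8, 8, 11, 10, 11, 11, 11, 10, 10, 10, 10, 10, 11, 11, 11, 11, 11, 14, 14, 14, 13, 12, 13, 12] = true := by decide +kernel
theorem c221 : eqW R 3 3 [42] [8, 9, 9, 8, 8, 8, 9, 9, 8, 9, 8, 9, 9, 8, 8, 8, 11, 10, 11, 11, 11, 10, 10, 10, 10, 10, 11, 11, 11, 11, 11, 14, 14, 14, 13, 12, 13, 12] = true := by decide +kernel
theorem c222 : eqW R 6 3 [42] [8, 9, 9, 8, 8, 8, 9, 9, 8, 9, 8, 9, 9, 8, 8, 8, 11, 10, 11, 11, 11, 10, 10, 10, 10, 10, 11, 11, 11, 11, 11, 14, 14, 14, 13, 12, 13, 12] = true := by decide +kernel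
theorem c223 : eqW R 9 3 [42] [8, 9, 9, 8, 8, 8, 9, 9, 8, 9, 8, 9, 9, 8, 8, 8, 11, 10, 11, 11, 11, 10, 10, 10, 10, 10, 11, 11, 11, 11, 11, 14, 14, 14, 13, 12, 13, 12] = true := by decide +kernel
theorem c224 : eqW R 12 3 [42] [8, 9, 9, 8, 8, 8, 9, 9, 8, 9, 8, 9, 9, 8, 8, 8, 11, 10, 11, 11, 11, 10, 10, 10, 10, 10, 11, 11, 11, 11, 11, 14, 14, 14, 13, 12, 13, 12] = true := by decide +kernel
theorem c225 : eqW R 15 2 [42] [8, 9, 9, 8, 8, 8, 9, 9, 8, 9, 8, 9, 9, 8, 8, 8, 11, 10, 11, 11, 11, 10, 10, 10, 10, 10, 11, 11, 11, 11, 11, 14, 14, 14, 13, 12, 13, 12] = true := by decide +kernel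
theorem c226 : eqW R 0 3 [41] [9, 8, 9, 8, 9, 9, 8, 8, 9, 9, 8, 8, 8, 8, 8, 8, 8, 11, 10, 11, 11, 10, 11, 10, 11, 10, 11, 10, 10, 11, 11, 10, 12, 14, 14, 12] = true := by decide +kernel
theorem c227 : eqW R 3 3 [41] [9, 8, 9, 8, 9, 9, 8, 8, 9, 9, 8, 8, 8, 8, 8, 8, 8, 11, 10, 11, 11, 10, 11, 10, 11, 10, 11, 10, 10, 11, 11, 10, 12, 14, 14, 12] = true := by decide +kernel
theorem c228 : eqW R 6 3 [41] [9, 8, 9, 8, 9, 9, 8, 8, 9, 9, 8, 8, 8, 8, 8, 8, 8, 11, 10, 11, 11, 10, 11, 10, 11, 10, 11, 10, 10, 11, 11, 10, 12, 14, 14, 12] = true := by decide +kernel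
theorem c229 : eqW R 9 3 [41] [9, 8, 9, 8, 9, 9, 8, 8, 9, 9, 8, 8, 8, 8, 8, 8, 8, 11, 10, 11, 11, 10, 11, 10, 11, 10, 11, 10, 10, 11, 11, 10, 12, 14, 14, 12] = true := by decide +kernel
theorem c230 : eqW R 12 3 [41] [9, 8, 9, 8, 9, 9, 8, 8, 9, 9, 8, 8, 8, 8, 8, 8, 8, 11, 10, 11, 11, 10, 11, 10, 11, 10, 11, 10, 10, 11, 11, 10, 12, 14, 14, 12] = true := by decide +kernel
theorem c231 : eqW R 15 2 [41] [9, 8, 9, 8, 9, 9, 8, 8, 9, 9, 8, 8, 8, 8, 8, 8, 8, 11, 10, 11, 11, 10, 11, 10, 11, 10, 11, 10, 10, 11, 11, 10, 12, 14, 14, 12] = true := by decide +kernel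
theorem c232 : eqW R 0 3 [40] [8, 8, 8, 8, 8, 9, 8, 8, 8, 8, 8, 9, 9, 9, 8, 9, 9, 10, 11, 10, 11, 10, 11, 11, 10, 10, 11, 11, 11, 10, 11, 11, 10, 13, 14, 14, 14, 14, 12] = true := by decide +kernel
theorem c233 : eqW R 3 3 [40] [8, 8, 8, 8, 8, 9, 8, 8, 8, 8, 8, 9, 9, 9, 8, 9, 9, 10, 11, 10, 11, 10, 11, 11, 10, 10, 11, 11, 11, 10, 11, 11, 10, 13, 14, 14, 14, 14, 12] = true := by decide +kernel
theorem c234 : eqW R 6 3 [40] [8, 8, 8, 8, 8, 9, 8, 8, 8, 8, 8, 9, 9, 9, 8, 9, 9, 10, 11, 10, 11, 10, 11, 11, 10, 10, 11, 11, 11, 10, 11, 11, 10, 13, 14, 14, 14, 14, 12] = true := by decide +kernel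
theorem c235 : eqW R 9 3 [40] [8, 8, 8, 8, 8, 9, 8, 8, 8, 8, 8, 9, 9, 9, 8, 9, 9, 10, 11, 10, 11, 10, 11, 11, 10, 10, 11, 11, 11, 10, 11, 11, 10, 13, 14, 14, 14, 14, 12] = true := by decide +kernel
theorem c236 : eqW R 12 3 [40] [8, 8, 8, 8, 8, 9, 8, 8, 8, 8, 8, 9, 9, 9, 8, 9, 9, 10, 11, 10, 11, 10, 11, 11, 10, 10, 11, 11, 11, 10, 11, 11, 10, 13, 14, 14, 14, 14, 12] = true := by decide +kernel
theorem c237 : eqW R 15 2 [40] [8, 8, 8, 8, 8, 9, 8, 8, 8, 8, 8, 9, 9, 9, 8, 9, 9, 10, 11, 10, 11, 10, 11, 11, 10, 10, 11, 11, 11, 10, 11, 11, 10, 13, 14, 14, 14, 14, 12] = true := by decide +kernel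
theorem c238 : eqW R 0 3 [39] [9, 8, 9, 9, 8, 8, 9, 8, 8, 9, 9, 8, 9, 8, 8, 11, 10, 10, 11, 11, 11, 11, 10, 11, 10, 10, 11, 11, 10, 10, 10, 12, 14, 14, 13, 12] = true := by decide +kernel
theorem c239 : eqW R 3 3 [39] [9, 8, 9, 9, 8, 8, 9, 8, 8, 9, 9, 8, 9, 8, 8, 11, 10, 10, 11, 11, 11, 11, 10, 11, 10, 10, 11, 11, 10, 10, 10, 12, 14, 14, 13, 12] = true := by decide +kernel
end H0.OON
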