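import Cfsg.Agent.H0.OON.D
set_option maxRecDepth 100000
set_option Elab.async false
set_option linter.unusedSectionVars false
namespace H0.OON
open H0 BN 
theorem c126 : pairsB R [222, 1, 0] ((CE.drop 87).take 8) = true := by decide +kernel
theorem c127 : pairsB R [222, 1, 0] ((CE.drop 95).take 6) = true := by decide +kernel
theorem c128 : pairsB R [222, 1, 0] ((CE.drop 101).take 6) = true := by decide +kernel
theorem c129 : pairsB R [222, 1, 0] ((CE.drop 107).take 5) = true := by decide +kernel
theorem c130 : pairsB R [222, 1, 0] ((CE.drop 112).take 6) = true := by decide +kernel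
theorem c131 : pairsB R [222, 1, 0] ((CE.drop 118).take 5) = true := by decide +kernel
theorem c132 : pairsB R [222, 1, 0] ((CE.drop 123).take 5) = true := by decide +kernel
theorem c133 : pairsB R [222, 1, 0] ((CE.drop 128).take 5) = true := by decide +kernel
end H0.OON
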