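import Cfsg.Agent.H0.OON.D
set_option maxRecDepth 100000
set_option Elab.async false
set_option linter.unusedSectionVars false
namespace H0.OON
open H0 BN 
theorem c134 : pairsB R [222, 1, 0] ((CE.drop 133).take 4) = true := by decide +kernel
theorem c135 : pairsB R [222, 1, 0] ((CE.drop 137).take 4) = true := by decide +kernel
theorem c136 : pairsB R [222, 1, 0] ((CE.drop 141).take 8) = true := by decide +kernel
theorem c137 : pairsB R [222, 1, 0] ((CE.drop 149).take 10) = true := by decide +kernel
theorem c138 : pairsB R [222, 1, 0] ((CE.drop 159).take 8) = true := by decide +kernel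
theorem c139 : pairsB R [222, 1, 0] ((CE.drop 167).take 7) = true := by decide +kernel
theorem c140 : pairsB R [222, 1, 0] ((CE.drop 174).take 6) = true := by decide +kernel
theorem c141 : pairsB R [222, 1, 0] ((CE.drop 180).take 6) = true := by decide +kernel
end H0.OON
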