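import Cfsg.Agent.H0.OON.D
set_option maxRecDepth 100000
set_option Elab.async false
set_option linter.unusedSectionVars false
namespace H0.OON
open H0 BN 
theorem c142 : pairsB R [222, 1, 0] ((CE.drop 186).take 6) = true := by decide +kernel
theorem c143 : pairsB R [222, 1, 0] ((CE.drop 192).take 5) = true := by decide +kernel
theorem c144 : pairsB R [222, 1, 0] ((CE.drop 197).take 5) = true := by decide +kernel
theorem c145 : pairsB R [222, 1, 0] ((CE.drop 202).take 4) = true := by decide +kernel
theorem c146 : pairsB R [222, 1, 0] ((CE.drop 206).take 4) = true := by decide +kernel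
theorem c147 : pairsB R [222, 1, 0] ((CE.drop 210).take 4) = true := by decide +kernel
theorem c148 : pairsB R [222, 1, 0] ((CE.drop 214).take 2) = true := by decide +kernel
theorem c149 : pairsB R [222, 1, 0] (((Model.outE 16 17 18 [17] 19 8 1 5 RL).drop 0).take 6) = true := by decide +kernel
theorem c150 : pairsB R [222, 1, 0] (((Model.outE 16 17 18 [17] 19 8 1 5 RL).drop 6).take 1) = true := by decide +kernel
theorem c151 : neB R [16] [] 0 41838 0 = true := by decide +kernel
end H0.OON
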