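import Cfsg.Agent.H0.OON.D
set_option maxRecDepth 100000
set_option Elab.async false
set_option linter.unusedSectionVars false
namespace H0.OON
open H0 BN 
theorem c152 : allL (elimB R 16 17 18 RL [(1, []), (1, [37, 36, 36, 36])]) ((EL.drop 0).take 10) = true := by decide +kernel
theorem c153 : allL (elimB R 16 17 18 RL [(1, []), (1, [37, 36, 36, 36])]) ((EL.drop 10).take 8) = true := by decide +kernel
theorem c154 : allL (elimB R 16 17 18 RL [(1, []), (1, [37, 36, 36, 36])]) ((EL.drop 18).take 6) = true := by decide +kernel
theorem c155 : allL (elimB R 16 17 18 RL [(1, []), (1, [37, 36, 36, 36])]) ((EL.drop 24).take 8) = true := by decide +kernel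
theorem c156 : allL (elimB R 16 17 18 RL [(1, []), (1, [37, 36, 36, 36])]) ((EL.drop 32).take 5) = true := by decide +kernel
theorem c157 : allL (elimB R 16 17 18 RL [(1, []), (1, [37, 36, 36, 36])]) ((EL.drop 37).take 5) = true := by decide +kernel
theorem c158 : allL (elimB R 16 17 18 RL [(1, []), (1, [37, 36, 36, 36])]) ((EL.drop 42).take 6) = true := by decide +kernel
theorem c159 : allL (elimB R 16 17 18 RL [(1, []), (1, [37, 36, 36, 36])]) ((EL.drop 48).take 5) = true := by decide +kernel
end H0.OON
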