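import Cfsg.Agent.H0.OON.D
set_option maxRecDepth 100000
set_option Elab.async false
set_option linter.unusedSectionVars false
namespace H0.OON
open H0 BN 
theorem c160 : allL (elimB R 16 17 18 RL [(1, []), (1, [37, 36, 36, 36])]) ((EL.drop 53).take 5) = true := by decide +kernel
theorem c161 : allL (elimB R 16 17 18 RL [(1, []), (1, [37, 36, 36, 36])]) ((EL.drop 58).take 5) = true := by decide +kernel
theorem c162 : allL (elimB R 16 17 18 RL [(1, []), (1, [37, 36, 36, 36])]) ((EL.drop 63).take 4) = true := by decide +kernel
theorem c163 : allL (elimB R 16 17 18 RL [(1, []), (1, [37, 36, 36, 36])]) ((EL.drop 67).take 5) = true := by decide +kernel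
theorem c164 : allL (elimB R 16 17 18 RL [(1, []), (1, [37, 36, 36, 36])]) ((EL.drop 72).take 8) = true := by decide +kernel
theorem c165 : allL (elimB R 16 17 18 RL [(1, []), (1, [37, 36, 36, 36])]) ((EL.drop 80).take 6) = true := by decide +kernel
theorem c166 : allL (elimB R 16 17 18 RL [(1, []), (1, [37, 36, 36, 36])]) ((EL.drop 86).take 6) = true := by decide +kernel
theorem c167 : allL (elimB R 16 17 18 RL [(1, []), (1, [37, 36, 36, 36])]) ((EL.drop 92).take 4) = true := by decide +kernel
end H0.OON
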