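import Cfsg.Agent.H0.OON.D
set_option maxRecDepth 100000
set_option Elab.async false
set_option linter.unusedSectionVars false
namespace H0.OON
open H0 BN 
theorem c168 : allL (elimB R 16 17 18 RL [(1, []), (1, [37, 36, 36, 36])]) ((EL.drop 96).take 6) = true := by decide +kernel
theorem c169 : allL (elimB R 16 17 18 RL [(1, []), (1, [37, 36, 36, 36])]) ((EL.drop 102).take 4) = true := by decide +kernel
theorem c170 : allL (elimB R 16 17 18 RL [(1, []), (1, [37, 36, 36, 36])]) ((EL.drop 106).take 5) = true := by decide +kernel
theorem c171 : allL (elimB R 16 17 18 RL [(1, []), (1, [37, 36, 36, 36])]) ((EL.drop 111).take 5) = true := by decide +kernel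
theorem c172 : allL (elimB R 16 17 18 RL [(1, []), (1, [37, 36, 36, 36])]) ((EL.drop 116).take 4) = true := by decide +kernel
theorem c173 : allL (elimB R 16 17 18 RL [(1, []), (1, [37, 36, 36, 36])]) ((EL.drop 120).take 3) = true := by decide +kernel
theorem c174 : allL (elimB R 16 17 18 RL [(1, []), (1, [37, 36, 36, 36])]) ((EL.drop 123).take 5) = true := by decide +kernel
theorem c175 : allL (elimB R 16 17 18 RL [(1, []), (1, [37, 36, 36, 36])]) ((EL.drop 128).take 4) = true := by decide +kernel
end H0.OON
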