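import Cfsg.Agent.H0.OON.D
set_option maxRecDepth 100000
set_option Elab.async false
set_option linter.unusedSectionVars false
namespace H0.OON
open H0 BN 
theorem c176 : allL (elimB R 16 17 18 RL [(1, []), (1, [37, 36, 36, 36])]) ((EL.drop 132).take 4) = true := by decide +kernel
theorem c177 : allL (elimB R 16 17 18 RL [(1, []), (1, [37, 36, 36, 36])]) ((EL.drop 136).take 4) = true := by decide +kernel
theorem c178 : allL (elimB R 16 17 18 RL [(1, []), (1, [37, 36, 36, 36])]) ((EL.drop 140).take 5) = true := by decide +kernel
theorem c179 : allL (elimB R 16 17 18 RL [(1, []), (1, [37, 36, 36, 36])]) ((EL.drop 145).take 6) = true := by decide +kernel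
theorem c180 : allL (elimB R 16 17 18 RL [(1, []), (1, [37, 36, 36, 36])]) ((EL.drop 151).take 5) = true := by decide +kernel
theorem c181 : allL (elimB R 16 17 18 RL [(1, []), (1, [37, 36, 36, 36])]) ((EL.drop 156).take 5) = true := by decide +kernel
theorem c182 : allL (elimB R 16 17 18 RL [(1, []), (1, [37, 36, 36, 36])]) ((EL.drop 161).take 5) = true := by decide +kernel
theorem c183 : allL (elimB R 16 17 18 RL [(1, []), (1, [37, 36, 36, 36])]) ((EL.drop 166).take 4) = true := by decide +kernel
end H0.OON
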