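import Cfsg.Agent.H0.OON.K0
import Cfsg.Agent.H0.OON.K1
import Cfsg.Agent.H0.OON.K2
import Cfsg.Agent.H0.OON.K3
import Cfsg.Agent.H0.OON.K4
import Cfsg.Agent.H0.OON.K5
import Cfsg.Agent.H0.OON.K6
import Cfsg.Agent.H0.OON.K7
import Cfsg.Agent.H0.OON.K8
import Cfsg.Agent.H0.OON.K9
import Cfsg.Agent.H0.OON.K10
import Cfsg.Agent.H0.OON.K11
set_option maxRecDepth 100000
set_option Elab.async false
set_option linter.unusedSectionVars false
namespace H0.OON
open H0 BN 
theorem defs_ok : DefsOK R.p defs 16 := (defsOK_cons (eq_of_bits R (eqb_step R (eqb_step R (eqb_step R (eqb_step R (eqb_step R (eqb_step R (eqb_zero R [16] [9, 9, 8, 8, 9, 8, 8, 9, 9, 9, 8, 9, 8, 8, 10, 11, 11, 10, 10, 11, 10, 11, 10, 10, 10, 10, 10, 11, 11, 10, 13, 14, 14, 14]) c376) c377) c378) c379) c380) c381)) (by decide) (defsOK_cons (eq_of_bits R (eqb_step R (eqb_step R (eqb_step R (eqb_step R (eqb_step R (eqb_step R (eqb_zero R [17] [8, 8, 8, 8, 9, 8, 9, 8, 8, 8, 8,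 9, 9, 9, 8, 8, 9, 11, 11, 11, 11, 10, 10, 11, 10, 10, 10, 11, 11, 10, 10, 10, 10, 10, 12, 14]) c370) c371) c372) c373) c374) c375)) (by decide) (defsOK_cons (eq_of_bits R (eqb_step R (eqb_step R (eqb_step R (eqb_step R (eqb_step R (eqb_step R (eqb_zero R [18] [8, 9, 9, 8, 8, 8, 8, 9, 9, 8, 9, 9, 8, 9, 8, 8, 8, 9, 10, 11, 10, 11, 11, 11, 11, 10, 10, 11, 10, 11, 10, 11, 10, 14, 14, 14, 14]) c364) c365) c366) c367) c368) c369)) (by decide) (defsOK_cons (eq_of_bits R (eqb_step R (eqb_step R (eqb_step R (eqb_step R (eqb_step R (eqb_step R (eqb_zero R [19] [16, 17, 18, 17]) c358) c359) c360) c361) c362) c363)) (by decide) (defsOK_cons (eq_of_bits R (eqb_step R (eqb_step R (eqb_step R (eqb_step R (eqb_step R (eqb_step R (eqb_zero R [20] [18, 16, 18, 16]) c352) c353) c354) c355) c356) c357)) (by decide) (defsOK_cons (eq_of_bits R (eqb_step R (eqb_step R (eqb_step R (eqb_step R (eqb_step R (eqb_step R (eqb_zero R [21] [19, 19, 20, 20, 20,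 20, 20, 19, 20, 20, 20, 19, 19, 20, 20, 19, 19, 20, 19, 19]) c346) c347) c348) c349) c350) c351)) (by decide) (defsOK_cons (eq_of_bits R (eqb_step R (eqb_step R (eqb_step R (eqb_step R (eqb_step R (eqb_step R (eqb_zero R [22] [20, 19, 19, 19, 20, 20, 20, 19, 20, 20, 19, 19, 20, 20, 20, 20, 19, 19]) c340) c341) c342) c343) c344) c345)) (by decide) (defsOK_cons (eq_of_bits R (eqb_step R (eqb_step R (eqb_step R (eqb_step R (eqb_step R (eqb_step R (eqb_zero R [23] [22, 21, 21, 21, 21, 21, 21, 22, 21, 22, 22, 21]) c334) c335) c336) c337) c338) c339)) (by decide) (defsOK_cons (eq_of_bits R (eqb_step R (eqb_step R (eqb_step R (eqb_step R (eqb_step R (eqb_step R (eqb_zero R [24] [22, 22, 22, 22, 22, 21, 21, 22, 21, 21, 21, 21, 21]) c328) c329) c330) c331) c332) c333)) (by decide) (defsOK_cons (eq_of_bits R (eqb_step R (eqb_step R (eqb_step R (eqb_step R (eqb_step R (eqb_step R (eqb_zero R [25] [23, 23, 23, 24, 24, 23, 23, 23, 24, 24, 23])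 c322) c323) c324) c325) c326) c327)) (by decide) (defsOK_cons (eq_of_bits R (eqb_step R (eqb_step R (eqb_step R (eqb_step R (eqb_step R (eqb_step R (eqb_zero R [26] [19, 19, 20, 19, 19, 19, 19, 20, 19, 19, 20, 20, 19, 19, 20]) c316) c317) c318) c319) c320) c321)) (by decide) (defsOK_cons (eq_of_bits R (eqb_step R (eqb_step R (eqb_step R (eqb_step R (eqb_step R (eqb_step R (eqb_zero R [27] [19, 19, 20, 20, 20, 19, 20, 19, 20, 19, 19, 20, 20, 19, 19, 20, 20, 19, 20, 19]) c310) c311) c312) c313) c314) c315)) (by decide) (defsOK_cons (eq_of_bits R (eqb_step R (eqb_step R (eqb_step R (eqb_step R (eqb_step R (eqb_step R (eqb_zero R [28] [26, 26, 27, 26, 27, 26, 27, 26, 26, 26, 26, 27, 27]) c304) c305) c306) c307) c308) c309)) (by decide) (defsOK_cons (eq_of_bits R (eqb_step R (eqb_step R (eqb_step R (eqb_step R (eqb_step R (eqb_step R (eqb_zero R [29] [27, 26, 27, 27, 26, 26, 27, 27, 26, 26, 26, 27, 26]) c298) c299) c300) c301) c302) c303))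 (by decide) (defsOK_cons (eq_of_bits R (eqb_step R (eqb_step R (eqb_step R (eqb_step R (eqb_step R (eqb_step R (eqb_zero R [30] [28, 28, 28, 28, 28, 29, 28, 28, 29, 29, 29, 28, 29, 28, 28]) c292) c293) c294) c295) c296) c297)) (by decide) (defsOK_cons (eq_of_bits R (eqb_step R (eqb_step R (eqb_step R (eqb_step R (eqb_step R (eqb_step R (eqb_zero R [31] [28, 28, 29, 28, 28, 29, 28, 28, 29, 29, 28, 29, 29, 29, 29, 29, 29]) c286) c287) c288) c289) c290) c291)) (by decide) (defsOK_cons (eq_of_bits R (eqb_step R (eqb_step R (eqb_step R (eqb_step R (eqb_step R (eqb_step R (eqb_zero R [32] [29, 29, 29, 28, 28, 28, 29, 29, 29, 29, 29, 29, 28, 28, 29, 29, 28]) c280) c281) c282) c283) c284) c285)) (by decide) (defsOK_cons (eq_of_bits R (eqb_step R (eqb_step R (eqb_step R (eqb_step R (eqb_step R (eqb_step R (eqb_zero R [33] [31, 32, 32, 32]) c274) c275) c276) c277) c278) c279)) (by decide) (defsOK_cons (eq_of_bits R (eqb_step R (eqb_step R (eqb_step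 R (eqb_step R (eqb_step R (eqb_step R (eqb_zero R [34] [31, 31, 30, 31, 31]) c268) c269) c270) c271) c272) c273)) (by decide) (defsOK_cons (eq_of_bits R (eqb_step R (eqb_step R (eqb_step R (eqb_step R (eqb_step R (eqb_step R (eqb_zero R [35] [33, 34, 33, 33]) c262) c263) c264) c265) c266) c267)) (by decide) (defsOK_cons (eq_of_bits R (eqb_step R (eqb_step R (eqb_step R (eqb_step R (eqb_step R (eqb_step R (eqb_zero R [36] [8, 8, 9, 9, 8, 8, 9, 9, 8, 8, 9, 9, 9, 8, 8, 8, 8, 11, 11, 10, 11, 10, 11, 10, 10, 10, 10, 10, 10, 10, 10, 11, 11, 10, 14, 14]) c256) c257) c258) c259) c260) c261)) (by decide) (defsOK_cons (eq_of_bits R (eqb_step R (eqb_step R (eqb_step R (eqb_step R (eqb_step R (eqb_step R (eqb_zero R [37] [9, 8, 9, 9, 8, 8, 9, 9, 8, 9, 8, 8, 9, 9, 11, 10, 10, 11, 10, 11, 10, 11, 11, 11, 10, 10, 10, 11, 10, 10, 14, 14, 14, 12]) c250) c251) c252) c253) c254) c255)) (by decide) (defsOK_cons (eq_of_bits R (eqb_step R (eqb_step R (eqb_step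 R (eqb_step R (eqb_step R (eqb_step R (eqb_zero R [38] [9, 9, 8, 8, 9, 9, 9, 9, 8, 8, 8, 9, 9, 8, 11, 11, 11, 11, 10, 11, 11, 11, 10, 10, 10, 11, 10, 11, 11, 11, 12, 14, 12, 13, 12]) c244) c245) c246) c247) c248) c249)) (by decide) (defsOK_cons (eq_of_bits R (eqb_step R (eqb_step R (eqb_step R (eqb_step R (eqb_step R (eqb_step R (eqb_zero R [39] [9, 8, 9, 9, 8, 8, 9, 8, 8, 9, 9, 8, 9, 8, 8, 11, 10, 10, 11, 11, 11, 11, 10, 11, 10, 10, 11, 11, 10, 10, 10, 12, 14, 14, 13, 12]) c238) c239) c240) c241) c242) c243)) (by decide) (defsOK_cons (eq_of_bits R (eqb_step R (eqb_step R (eqb_step R (eqb_step R (eqb_step R (eqb_step R (eqb_zero R [40] [8, 8, 8, 8, 8, 9, 8, 8, 8, 8, 8, 9, 9, 9, 8, 9, 9, 10, 11, 10, 11, 10, 11, 11, 10, 10, 11, 11, 11, 10, 11, 11, 10, 13, 14, 14, 14, 14, 12]) c232) c233) c234) c235) c236) c237)) (by decide) (defsOK_cons (eq_of_bits R (eqb_step R (eqb_step R (eqb_step R (eqb_step R (eqb_step R (eqb_step R (eqb_zero R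 [41] [9, 8, 9, 8, 9, 9, 8, 8, 9, 9, 8, 8, 8, 8, 8, 8, 8, 11, 10, 11, 11, 10, 11, 10, 11, 10, 11, 10, 10, 11, 11, 10, 12, 14, 14, 12]) c226) c227) c228) c229) c230) c231)) (by decide) (defsOK_cons (eq_of_bits R (eqb_step R (eqb_step R (eqb_step R (eqb_step R (eqb_step R (eqb_step R (eqb_zero R [42] [8, 9, 9, 8, 8, 8, 9, 9, 8, 9, 8, 9, 9, 8, 8, 8, 11, 10, 11, 11, 11, 10, 10, 10, 10, 10, 11, 11, 11, 11, 11, 14, 14, 14, 13, 12, 13, 12]) c220) c221) c222) c223) c224) c225)) (by decide) (defsOK_cons (eq_of_bits R (eqb_step R (eqb_step R (eqb_step R (eqb_step R (eqb_step R (eqb_step R (eqb_zero R [43] [9, 8, 9, 9, 9, 9, 8, 8, 9, 9, 9, 9, 8, 9, 9, 9, 11, 10, 10, 11, 10, 11, 11, 10, 10, 11, 11, 11, 10, 11, 11, 10, 13, 14, 14, 14]) c214) c215) c216) c217) c218) c219)) (by decide) (defsOK_cons (eq_of_bits R (eqb_step R (eqb_step R (eqb_step R (eqb_step R (eqb_step R (eqb_step R (eqb_zero R [44] [8, 9, 9, 8, 9, 8, 8, 8, 8, 9, 8, 9, 8, 8, 10,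 10, 10, 11, 10, 10, 11, 11, 11, 10, 11, 10, 12, 14, 14, 14]) c208) c209) c210) c211) c212) c213)) (by decide) (defsOK_cons (eq_of_bits R (eqb_step R (eqb_step R (eqb_step R (eqb_step R (eqb_step R (eqb_step R (eqb_zero R [45] [9, 9, 9, 8, 9, 8, 9, 9, 9, 8, 9, 9, 9, 9, 8, 8, 11, 11, 10, 11, 10, 11, 10, 10, 11, 11, 10, 10, 11, 10, 10, 13, 14, 14, 14, 13, 12]) c202) c203) c204) c205) c206) c207)) (by decide) (defsOK_nil _ _)))))))))))))))))))))))))))))))
universe u
variable {G : Type u} [Group G] [Finite G] (m0 : Model G) (h0 : m0.R = H0.MON.R)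
noncomputable def m : Model G := m0.ext (lg := nat_lit 17) (N := nat_lit 131072) (l := H0.MON.nl) h0 nl nl_ok 16 rfl defs defs_ok (by decide +kernel)
theorem mR : (m m0 h0).R = R := rfl
variable (hb : m0.pst [222, 1, 0] = ⊥) (hc : Nat.card G = 460815505920)
include h0 hb hc
theorem base : (m m0 h0).pst [222, 1, 0] = ⊥ := hb
omit hb hc in
theorem xch_ok : (m m0 h0).ChainOK xch [] := ((m m0 h0).chain_cons [0, 1, 0, 1, 0, 1, 0, 1, 0, 1, 0, 1, 0, 1, 0, 1, 0, 1, 0, 1, 0, 1, 0, 1, 0, 1, 0, 1, 0, 0] (Model.via _ (mR m0 h0) (fun R => Model.fixP R [] [[19], [20]]) c6) (Model.via _ (mR m0 h0) (fun R => Model.growP R [[19], [20]] [0, 1, 0, 1, 0, 1, 0, 1, 0, 1, 0, 1, 0, 1, 0, 1, 0, 1, 0, 1, 0, 1, 0, 1, 0, 1, 0, 1, 0, 0] 54937 122760) c7) ((m m0 h0).chain_cons [0, 1, 0, 1, 0, 1, 0, 1, 0, 1, 0, 1, 0, 1, 0, 1, 0, 1, 0, 1, 0, 1] (Model.via _ (mR m0 h0) (fun R => Model.fixP R [54937] [[21], [22]]) c4) (Model.via _ (mR m0 h0) (fun R => Model.growP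 R [[21], [22]] [0, 1, 0, 1, 0, 1, 0, 1, 0, 1, 0, 1, 0, 1, 0, 1, 0, 1, 0, 1, 0, 1] 40617 5586) c5) ((m m0 h0).chain_cons [0, 1, 0, 1, 0, 1, 0, 1, 0, 1, 0, 1, 0, 1] (Model.via _ (mR m0 h0) (fun R => Model.fixP R [40617, 54937] [[23], [24]]) c2) (Model.via _ (mR m0 h0) (fun R => Model.growP R [[23], [24]] [0, 1, 0, 1, 0, 1, 0, 1, 0, 1, 0, 1, 0, 1] 91069 336) c3) ((m m0 h0).chain_cons [0] (Model.via _ (mR m0 h0) (fun R => Model.fixP R [91069, 40617, 54937] [[25]]) c0) (Model.via _ (mR m0 h0) (fun R => Model.growP R [[25]] [0] 27886 2) c1) ((m m0 h0).chain_nil _)))))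
theorem xtop : gen (m m0 h0).g (Model.cgens xch) = ⊤ := (m m0 h0).chain_top (xch_ok m0 h0) (hc.trans (by decide +kernel))
theorem xbdd : (m m0 h0).Bdd := (m m0 h0).bdd_of_top (xtop m0 h0 hb hc)
theorem xot : (m m0 h0).OTOK xOT := ((m m0 h0).otok_cons (xch_ok m0 h0) (hc.trans (by decide +kernel)) 2 rfl (Model.via _ (mR m0 h0) (fun R => Model.invB R (Model.cgens (xch.drop 2)) xO0) c55) ((m m0 h0).otok_cons (xch_ok m0 h0) (hc.trans (by decide +kernel)) 2 rfl (Model.via _ (mR m0 h0) (fun R => Model.invB R (Model.cgens (xch.drop 2)) xO1) c54) ((m m0 h0).otok_cons (xch_ok m0 h0) (hc.trans (by decide +kernel)) 2 rfl (Model.via _ (mR m0 h0) (fun R => Model.invB R (Model.cgens (xch.drop 2)) xO2) c53) ((m m0 h0).otok_cons (xch_ok m0 h0) (hc.trans (by decide +kernel)) 1 rfl (Model.via _ (mR m0 h0) (fun R => Model.invB R (Model.cgens (xch.drop 1)) xO3) c52) ((m m0 h0).otok_cons (xch_ok m0 h0) (hc.trans (by decide +kernel)) 0 rfl (Model.via _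 (mR m0 h0) (fun R => Model.invB R (Model.cgens (xch.drop 0)) xO4) c51) (m m0 h0).otok_nil)))))
theorem xcm : ∀ w ∈ xCg, (m m0 h0).Cm [[16]] (ev (m m0 h0).g w) := (m m0 h0).cm_of_pairs (all_take_done (all_take_step (all_take_zero _ (xCg.flatMap fun w => [[16]].map fun y => (w ++ y, y ++ w))) ((m m0 h0).pairs_of (base m0 h0 hb hc) (Model.via _ (mR m0 h0) (fun R => pairsB R [222, 1, 0] (((xCg.flatMap fun w => [[16]].map fun y => (w ++ y, y ++ w)).drop 0).take 1)) c56))) (by decide +kernel))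
theorem xn2 : (m m0 h0).Sol [[16]] xCg [67380, 27886, 91069, 40617, 54937] [67380, 27886, 91069, 40617, 54937] := (m m0 h0).sol_done [1, 2, 3, 4] (((m m0 h0).chain_bot (xch_ok m0 h0) (hc.trans (by decide +kernel))).le.trans bot_le) (by decide +kernel)
theorem xn1 : (m m0 h0).Sol [[16]] xCg [54937] [54937] := (m m0 h0).sol_free (xbdd m0 h0 hb hc) (xcm m0 h0 hb hc) (xot m0 h0 hb hc) ((m m0 h0).excl_zero _ _) (Model.via _ (mR m0 h0) (fun R => freeB R xOT [[16]] xCg [0] [54937] [54937] [] 40617 0 [([], 40617, 3)] [[0]] [0, 0, 0, 0, 0, 0, 0, 0, 0, 0, 0, 0, 0, 0, 0, 0, 0, 0] xc47) c47) ((m m0 h0).solL_leaves (xot m0 h0 hb hc) [0] (Bc := [67380, 27886, 91069, 40617]) (Model.via _ (mR m0 h0) (fun R => cycB R (subst [[16]] [0]) [67380, 27886, 91069, 40617]) c9) (Model.via _ (mR m0 h0) (fun R => allL (leafB R xOT (subst [[16]] [0]) [1, 2, 3, 4] [67380, 27886, 91069, 40617] [54937] [54937]) xL46) c46) ((m m0 h0).solL_leaves (xot m0 h0 hb hc)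 [0] (Bc := [67380, 27886, 91069, 40617]) (Model.via _ (mR m0 h0) (fun R => cycB R (subst [[16]] [0]) [67380, 27886, 91069, 40617]) c9) (Model.via _ (mR m0 h0) (fun R => allL (leafB R xOT (subst [[16]] [0]) [1, 2, 3, 4] [67380, 27886, 91069, 40617] [54937] [54937]) xL45) c45) ((m m0 h0).solL_leaves (xot m0 h0 hb hc) [0] (Bc := [67380, 27886, 91069, 40617]) (Model.via _ (mR m0 h0) (fun R => cycB R (subst [[16]] [0]) [67380, 27886, 91069, 40617]) c9) (Model.via _ (mR m0 h0) (fun R => allL (leafB R xOT (subst [[16]] [0]) [1, 2, 3, 4] [67380, 27886, 91069, 40617] [54937] [54937]) xL44) c44) ((m m0 h0).solL_leaves (xot m0 h0 hb hc) [0] (Bc := [67380, 27886, 91069, 40617]) (Model.via _ (mR m0 h0) (fun R => cycB R (subst [[16]] [0]) [67380, 27886, 91069, 40617]) c9) (Model.via _ (mR m0 h0) (fun R => allL (leafB R xOT (subst [[16]] [0]) [1, 2, 3, 4] [67380, 27886, 91069, 40617] [54937] [54937]) xL43) c43) ((m m0 h0).solL_leaves (xot m0 h0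 hb hc) [0] (Bc := [67380, 27886, 91069, 40617]) (Model.via _ (mR m0 h0) (fun R => cycB R (subst [[16]] [0]) [67380, 27886, 91069, 40617]) c9) (Model.via _ (mR m0 h0) (fun R => allL (leafB R xOT (subst [[16]] [0]) [1, 2, 3, 4] [67380, 27886, 91069, 40617] [54937] [54937]) xL42) c42) ((m m0 h0).solL_leaves (xot m0 h0 hb hc) [0] (Bc := [67380, 27886, 91069, 40617]) (Model.via _ (mR m0 h0) (fun R => cycB R (subst [[16]] [0]) [67380, 27886, 91069, 40617]) c9) (Model.via _ (mR m0 h0) (fun R => allL (leafB R xOT (subst [[16]] [0]) [1, 2, 3, 4] [67380, 27886, 91069, 40617] [54937] [54937]) xL41) c41) ((m m0 h0).solL_leaves (xot m0 h0 hb hc) [0] (Bc := [67380, 27886, 91069, 40617]) (Model.via _ (mR m0 h0) (fun R => cycB R (subst [[16]] [0]) [67380, 27886, 91069, 40617]) c9) (Model.via _ (mR m0 h0) (fun R => allL (leafB R xOT (subst [[16]] [0]) [1, 2, 3, 4] [67380, 27886, 91069, 40617] [54937] [54937]) xL40) c40) ((m m0 h0).solL_leaves (xot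 m0 h0 hb hc) [0] (Bc := [67380, 27886, 91069, 40617]) (Model.via _ (mR m0 h0) (fun R => cycB R (subst [[16]] [0]) [67380, 27886, 91069, 40617]) c9) (Model.via _ (mR m0 h0) (fun R => allL (leafB R xOT (subst [[16]] [0]) [1, 2, 3, 4] [67380, 27886, 91069, 40617] [54937] [54937]) xL39) c39) ((m m0 h0).solL_leaves (xot m0 h0 hb hc) [0] (Bc := [67380, 27886, 91069, 40617]) (Model.via _ (mR m0 h0) (fun R => cycB R (subst [[16]] [0]) [67380, 27886, 91069, 40617]) c9) (Model.via _ (mR m0 h0) (fun R => allL (leafB R xOT (subst [[16]] [0]) [1, 2, 3, 4] [67380, 27886, 91069, 40617] [54937] [54937]) xL38) c38) ((m m0 h0).solL_leaves (xot m0 h0 hb hc) [0] (Bc := [67380, 27886, 91069, 40617]) (Model.via _ (mR m0 h0) (fun R => cycB R (subst [[16]] [0]) [67380, 27886, 91069, 40617]) c9) (Model.via _ (mR m0 h0) (fun R => allL (leafB R xOT (subst [[16]] [0]) [1, 2, 3, 4] [67380, 27886, 91069, 40617] [54937] [54937]) xL37) c37) ((m m0 h0).solL_leaves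 (xot m0 h0 hb hc) [0] (Bc := [67380, 27886, 91069, 40617]) (Model.via _ (mR m0 h0) (fun R => cycB R (subst [[16]] [0]) [67380, 27886, 91069, 40617]) c9) (Model.via _ (mR m0 h0) (fun R => allL (leafB R xOT (subst [[16]] [0]) [1, 2, 3, 4] [67380, 27886, 91069, 40617] [54937] [54937]) xL36) c36) ((m m0 h0).solL_leaves (xot m0 h0 hb hc) [0] (Bc := [67380, 27886, 91069, 40617]) (Model.via _ (mR m0 h0) (fun R => cycB R (subst [[16]] [0]) [67380, 27886, 91069, 40617]) c9) (Model.via _ (mR m0 h0) (fun R => allL (leafB R xOT (subst [[16]] [0]) [1, 2, 3, 4] [67380, 27886, 91069, 40617] [54937] [54937]) xL35) c35) ((m m0 h0).solL_leaves (xot m0 h0 hb hc) [0] (Bc := [67380, 27886, 91069, 40617]) (Model.via _ (mR m0 h0) (fun R => cycB R (subst [[16]] [0]) [67380, 27886, 91069, 40617]) c9) (Model.via _ (mR m0 h0) (fun R => allL (leafB R xOT (subst [[16]] [0]) [1, 2, 3, 4] [67380, 27886, 91069, 40617] [54937] [54937]) xL34) c34) ((m m0 h0).solL_leaves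 (xot m0 h0 hb hc) [0] (Bc := [67380, 27886, 91069, 40617]) (Model.via _ (mR m0 h0) (fun R => cycB R (subst [[16]] [0]) [67380, 27886, 91069, 40617]) c9) (Model.via _ (mR m0 h0) (fun R => allL (leafB R xOT (subst [[16]] [0]) [1, 2, 3, 4] [67380, 27886, 91069, 40617] [54937] [54937]) xL33) c33) ((m m0 h0).solL_leaves (xot m0 h0 hb hc) [0] (Bc := [67380, 27886, 91069, 40617]) (Model.via _ (mR m0 h0) (fun R => cycB R (subst [[16]] [0]) [67380, 27886, 91069, 40617]) c9) (Model.via _ (mR m0 h0) (fun R => allL (leafB R xOT (subst [[16]] [0]) [1, 2, 3, 4] [67380, 27886, 91069, 40617] [54937] [54937]) xL32) c32) ((m m0 h0).solL_leaves (xot m0 h0 hb hc) [0] (Bc := [67380, 27886, 91069, 40617]) (Model.via _ (mR m0 h0) (fun R => cycB R (subst [[16]] [0]) [67380, 27886, 91069, 40617]) c9) (Model.via _ (mR m0 h0) (fun R => allL (leafB R xOT (subst [[16]] [0]) [1, 2, 3, 4] [67380, 27886, 91069, 40617] [54937] [54937]) xL31) c31) ((m m0 h0).solL_leaves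 (xot m0 h0 hb hc) [0] (Bc := [67380, 27886, 91069, 40617]) (Model.via _ (mR m0 h0) (fun R => cycB R (subst [[16]] [0]) [67380, 27886, 91069, 40617]) c9) (Model.via _ (mR m0 h0) (fun R => allL (leafB R xOT (subst [[16]] [0]) [1, 2, 3, 4] [67380, 27886, 91069, 40617] [54937] [54937]) xL30) c30) ((m m0 h0).solL_leaves (xot m0 h0 hb hc) [0] (Bc := [67380, 27886, 91069, 40617]) (Model.via _ (mR m0 h0) (fun R => cycB R (subst [[16]] [0]) [67380, 27886, 91069, 40617]) c9) (Model.via _ (mR m0 h0) (fun R => allL (leafB R xOT (subst [[16]] [0]) [1, 2, 3, 4] [67380, 27886, 91069, 40617] [54937] [54937]) xL29) c29) ((m m0 h0).solL_leaves (xot m0 h0 hb hc) [0] (Bc := [67380, 27886, 91069, 40617]) (Model.via _ (mR m0 h0) (fun R => cycB R (subst [[16]] [0]) [67380, 27886, 91069, 40617]) c9) (Model.via _ (mR m0 h0) (fun R => allL (leafB R xOT (subst [[16]] [0]) [1, 2, 3, 4] [67380, 27886, 91069, 40617] [54937] [54937]) xL28) c28) ((m m0 h0).solL_leaves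 (xot m0 h0 hb hc) [0] (Bc := [67380, 27886, 91069, 40617]) (Model.via _ (mR m0 h0) (fun R => cycB R (subst [[16]] [0]) [67380, 27886, 91069, 40617]) c9) (Model.via _ (mR m0 h0) (fun R => allL (leafB R xOT (subst [[16]] [0]) [1, 2, 3, 4] [67380, 27886, 91069, 40617] [54937] [54937]) xL27) c27) ((m m0 h0).solL_leaves (xot m0 h0 hb hc) [0] (Bc := [67380, 27886, 91069, 40617]) (Model.via _ (mR m0 h0) (fun R => cycB R (subst [[16]] [0]) [67380, 27886, 91069, 40617]) c9) (Model.via _ (mR m0 h0) (fun R => allL (leafB R xOT (subst [[16]] [0]) [1, 2, 3, 4] [67380, 27886, 91069, 40617] [54937] [54937]) xL26) c26) ((m m0 h0).solL_leaves (xot m0 h0 hb hc) [0] (Bc := [67380, 27886, 91069, 40617]) (Model.via _ (mR m0 h0) (fun R => cycB R (subst [[16]] [0]) [67380, 27886, 91069, 40617]) c9) (Model.via _ (mR m0 h0) (fun R => allL (leafB R xOT (subst [[16]] [0]) [1, 2, 3, 4] [67380, 27886, 91069, 40617] [54937] [54937]) xL25) c25) ((m m0 h0).solL_leaves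 (xot m0 h0 hb hc) [0] (Bc := [67380, 27886, 91069, 40617]) (Model.via _ (mR m0 h0) (fun R => cycB R (subst [[16]] [0]) [67380, 27886, 91069, 40617]) c9) (Model.via _ (mR m0 h0) (fun R => allL (leafB R xOT (subst [[16]] [0]) [1, 2, 3, 4] [67380, 27886, 91069, 40617] [54937] [54937]) xL24) c24) ((m m0 h0).solL_leaves (xot m0 h0 hb hc) [0] (Bc := [67380, 27886, 91069, 40617]) (Model.via _ (mR m0 h0) (fun R => cycB R (subst [[16]] [0]) [67380, 27886, 91069, 40617]) c9) (Model.via _ (mR m0 h0) (fun R => allL (leafB R xOT (subst [[16]] [0]) [1, 2, 3, 4] [67380, 27886, 91069, 40617] [54937] [54937]) xL23) c23) ((m m0 h0).solL_leaves (xot m0 h0 hb hc) [0] (Bc := [67380, 27886, 91069, 40617]) (Model.via _ (mR m0 h0) (fun R => cycB R (subst [[16]] [0]) [67380, 27886, 91069, 40617]) c9) (Model.via _ (mR m0 h0) (fun R => allL (leafB R xOT (subst [[16]] [0]) [1, 2, 3, 4] [67380, 27886, 91069, 40617] [54937] [54937]) xL22) c22) ((m m0 h0).solL_leaves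 (xot m0 h0 hb hc) [0] (Bc := [67380, 27886, 91069, 40617]) (Model.via _ (mR m0 h0) (fun R => cycB R (subst [[16]] [0]) [67380, 27886, 91069, 40617]) c9) (Model.via _ (mR m0 h0) (fun R => allL (leafB R xOT (subst [[16]] [0]) [1, 2, 3, 4] [67380, 27886, 91069, 40617] [54937] [54937]) xL21) c21) ((m m0 h0).solL_leaves (xot m0 h0 hb hc) [0] (Bc := [67380, 27886, 91069, 40617]) (Model.via _ (mR m0 h0) (fun R => cycB R (subst [[16]] [0]) [67380, 27886, 91069, 40617]) c9) (Model.via _ (mR m0 h0) (fun R => allL (leafB R xOT (subst [[16]] [0]) [1, 2, 3, 4] [67380, 27886, 91069, 40617] [54937] [54937]) xL20) c20) ((m m0 h0).solL_leaves (xot m0 h0 hb hc) [0] (Bc := [67380, 27886, 91069, 40617]) (Model.via _ (mR m0 h0) (fun R => cycB R (subst [[16]] [0]) [67380, 27886, 91069, 40617]) c9) (Model.via _ (mR m0 h0) (fun R => allL (leafB R xOT (subst [[16]] [0]) [1, 2, 3, 4] [67380, 27886, 91069, 40617] [54937] [54937]) xL19) c19) ((m m0 h0).solL_leaves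 (xot m0 h0 hb hc) [0] (Bc := [67380, 27886, 91069, 40617]) (Model.via _ (mR m0 h0) (fun R => cycB R (subst [[16]] [0]) [67380, 27886, 91069, 40617]) c9) (Model.via _ (mR m0 h0) (fun R => allL (leafB R xOT (subst [[16]] [0]) [1, 2, 3, 4] [67380, 27886, 91069, 40617] [54937] [54937]) xL18) c18) ((m m0 h0).solL_leaves (xot m0 h0 hb hc) [0] (Bc := [67380, 27886, 91069, 40617]) (Model.via _ (mR m0 h0) (fun R => cycB R (subst [[16]] [0]) [67380, 27886, 91069, 40617]) c9) (Model.via _ (mR m0 h0) (fun R => allL (leafB R xOT (subst [[16]] [0]) [1, 2, 3, 4] [67380, 27886, 91069, 40617] [54937] [54937]) xL17) c17) ((m m0 h0).solL_leaves (xot m0 h0 hb hc) [0] (Bc := [67380, 27886, 91069, 40617]) (Model.via _ (mR m0 h0) (fun R => cycB R (subst [[16]] [0]) [67380, 27886, 91069, 40617]) c9) (Model.via _ (mR m0 h0) (fun R => allL (leafB R xOT (subst [[16]] [0]) [1, 2, 3, 4] [67380, 27886, 91069, 40617] [54937] [54937]) xL16) c16) ((m m0 h0).solL_leaves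 (xot m0 h0 hb hc) [0] (Bc := [67380, 27886, 91069, 40617]) (Model.via _ (mR m0 h0) (fun R => cycB R (subst [[16]] [0]) [67380, 27886, 91069, 40617]) c9) (Model.via _ (mR m0 h0) (fun R => allL (leafB R xOT (subst [[16]] [0]) [1, 2, 3, 4] [67380, 27886, 91069, 40617] [54937] [54937]) xL15) c15) ((m m0 h0).solL_leaves (xot m0 h0 hb hc) [0] (Bc := [67380, 27886, 91069, 40617]) (Model.via _ (mR m0 h0) (fun R => cycB R (subst [[16]] [0]) [67380, 27886, 91069, 40617]) c9) (Model.via _ (mR m0 h0) (fun R => allL (leafB R xOT (subst [[16]] [0]) [1, 2, 3, 4] [67380, 27886, 91069, 40617] [54937] [54937]) xL14) c14) ((m m0 h0).solL_leaves (xot m0 h0 hb hc) [0] (Bc := [67380, 27886, 91069, 40617]) (Model.via _ (mR m0 h0) (fun R => cycB R (subst [[16]] [0]) [67380, 27886, 91069, 40617]) c9) (Model.via _ (mR m0 h0) (fun R => allL (leafB R xOT (subst [[16]] [0]) [1, 2, 3, 4] [67380, 27886, 91069, 40617] [54937] [54937]) xL13) c13) ((m m0 h0).solL_leaves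 (xot m0 h0 hb hc) [0] (Bc := [67380, 27886, 91069, 40617]) (Model.via _ (mR m0 h0) (fun R => cycB R (subst [[16]] [0]) [67380, 27886, 91069, 40617]) c9) (Model.via _ (mR m0 h0) (fun R => allL (leafB R xOT (subst [[16]] [0]) [1, 2, 3, 4] [67380, 27886, 91069, 40617] [54937] [54937]) xL12) c12) ((m m0 h0).solL_leaves (xot m0 h0 hb hc) [0] (Bc := [67380, 27886, 91069, 40617]) (Model.via _ (mR m0 h0) (fun R => cycB R (subst [[16]] [0]) [67380, 27886, 91069, 40617]) c9) (Model.via _ (mR m0 h0) (fun R => allL (leafB R xOT (subst [[16]] [0]) [1, 2, 3, 4] [67380, 27886, 91069, 40617] [54937] [54937]) xL11) c11) ((m m0 h0).solL_cons ((m m0 h0).sol_cyc [0] (Bc := [67380, 27886, 91069, 40617]) (T := [67380, 27886, 91069, 40617]) rfl (Model.via _ (mR m0 h0) (fun R => cycB R (subst [[16]] [0]) [67380, 27886, 91069, 40617]) c9) (Model.via _ (mR m0 h0) (fun R => cycB R (subst [[16]] [0]) [67380, 27886, 91069, 40617]) c10) (xn2 m0 h0 hb hc)) (m m0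 h0).solL_nil)))))))))))))))))))))))))))))))))))))
theorem xn0 : (m m0 h0).Sol [[16]] xCg [] [] := (m m0 h0).sol_free (xbdd m0 h0 hb hc) (xcm m0 h0 hb hc) (xot m0 h0 hb hc) ((m m0 h0).excl_mov (xbdd m0 h0 hb hc) [0] (Model.via _ (mR m0 h0) (fun R => exclB R (subst [[16]] [0]) 54937 xD0) c49)) (Model.via _ (mR m0 h0) (fun R => freeB R xOT [[16]] xCg [] [] [] [] 54937 xD0 [([], 54937, 4)] [[0]] [] xc50) c50) ((m m0 h0).solL_cons ((m m0 h0).sol_cyc [] (Bc := [54937]) (T := [54937]) rfl (Model.via _ (mR m0 h0) (fun R => cycB R (subst [[16]] []) [54937]) c8) (Model.via _ (mR m0 h0) (fun R => cycB R (subst [[16]] []) [54937]) c48) (xn1 m0 h0 hb hc)) (m m0 h0).solL_nil)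
theorem xsol : (m m0 h0).Sol [[16]] xCg [] [] := xn0 m0 h0 hb hc
omit hb hc in
theorem ych_ok : (m m0 h0).ChainOK ych [] := ((m m0 h0).chain_cons [0, 1, 0, 1, 0, 1, 0, 1, 0, 1, 0, 1, 0, 1, 0, 1, 0, 1, 0, 1, 0, 1, 0, 1, 0, 1, 0, 1, 0] (Model.via _ (mR m0 h0) (fun R => Model.fixP R [] [[19], [20]]) c67) (Model.via _ (mR m0 h0) (fun R => Model.growP R [[19], [20]] [0, 1, 0, 1, 0, 1, 0, 1, 0, 1, 0, 1, 0, 1, 0, 1, 0, 1, 0, 1, 0, 1, 0, 1, 0, 1, 0, 1, 0] 39683 122760) c68) ((m m0 h0).chain_cons [0, 1, 0, 1, 0, 1, 0, 1, 0, 1, 0, 1, 0, 1, 0, 1, 0, 1, 0, 1, 0, 0] (Model.via _ (mR m0 h0) (fun R => Model.fixP R [39683] [[26], [27]]) c65) (Model.via _ (mR m0 h0) (fun R => Model.growP R [[26], [27]] [0, 1, 0, 1, 0, 1, 0, 1, 0, 1, 0, 1, 0, 1, 0, 1, 0, 1, 0, 1, 0, 0] 54937 5586) c66) ((m m0 h0).chain_cons [0, 1, 0, 0, 1, 0, 1, 0] (Model.via _ (mR m0 h0) (fun R => Model.fixP R [54937, 39683] [[28], [29]]) c63) (Model.via _ (mR m0 h0) (fun R => Model.growP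 R [[28], [29]] [0, 1, 0, 0, 1, 0, 1, 0] 102477 21) c64) ((m m0 h0).chain_cons [1, 2, 0, 1] (Model.via _ (mR m0 h0) (fun R => Model.fixP R [102477, 54937, 39683] [[30], [31], [32]]) c61) (Model.via _ (mR m0 h0) (fun R => Model.growP R [[30], [31], [32]] [1, 2, 0, 1] 65194 8) c62) ((m m0 h0).chain_cons [0] (Model.via _ (mR m0 h0) (fun R => Model.fixP R [65194, 102477, 54937, 39683] [[33], [34]]) c59) (Model.via _ (mR m0 h0) (fun R => Model.growP R [[33], [34]] [0] 22 2) c60) ((m m0 h0).chain_cons [0] (Model.via _ (mR m0 h0) (fun R => Model.fixP R [22, 65194, 102477, 54937, 39683] [[35]]) c57) (Model.via _ (mR m0 h0) (fun R => Model.growP R [[35]] [0] 69367 2) c58) ((m m0 h0).chain_nil _)))))))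
theorem ytop : gen (m m0 h0).g (Model.cgens ych) = ⊤ := (m m0 h0).chain_top (ych_ok m0 h0) (hc.trans (by decide +kernel))
theorem ybdd : (m m0 h0).Bdd := (m m0 h0).bdd_of_top (ytop m0 h0 hb hc)
theorem yot : (m m0 h0).OTOK yOT := ((m m0 h0).otok_cons (ych_ok m0 h0) (hc.trans (by decide +kernel)) 5 rfl (Model.via _ (mR m0 h0) (fun R => Model.invB R (Model.cgens (ych.drop 5)) yO0) c111) ((m m0 h0).otok_cons (ych_ok m0 h0) (hc.trans (by decide +kernel)) 4 rfl (Model.via _ (mR m0 h0) (fun R => Model.invB R (Model.cgens (ych.drop 4)) yO1) c110) ((m m0 h0).otok_cons (ych_ok m0 h0) (hc.trans (by decide +kernel)) 2 rfl (Model.via _ (mR m0 h0) (fun R => Model.invB R (Model.cgens (ych.drop 2)) yO2) c109) ((m m0 h0).otok_cons (ych_ok m0 h0) (hc.trans (by decide +kernel)) 1 rfl (Model.via _ (mR m0 h0) (fun R => Model.invB R (Model.cgens (ych.drop 1)) yO3) c108) ((m m0 h0).otok_cons (ych_ok m0 h0) (hc.trans (by decide +kernel)) 5 rfl (Model.via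 _ (mR m0 h0) (fun R => Model.invB R (Model.cgens (ych.drop 5)) yO4) c107) ((m m0 h0).otok_cons (ych_ok m0 h0) (hc.trans (by decide +kernel)) 6 rfl (Model.via _ (mR m0 h0) (fun R => Model.invB R (Model.cgens (ych.drop 6)) yO5) c106) ((m m0 h0).otok_cons (ych_ok m0 h0) (hc.trans (by decide +kernel)) 3 rfl (Model.via _ (mR m0 h0) (fun R => Model.invB R (Model.cgens (ych.drop 3)) yO6) c105) ((m m0 h0).otok_cons (ych_ok m0 h0) (hc.trans (by decide +kernel)) 4 rfl (Model.via _ (mR m0 h0) (fun R => Model.invB R (Model.cgens (ych.drop 4)) yO7) c104) ((m m0 h0).otok_cons (ych_ok m0 h0) (hc.trans (by decide +kernel)) 0 rfl (Model.via _ (mR m0 h0) (fun R => Model.invB R (Model.cgens (ych.drop 0)) yO8) c103) (m m0 h0).otok_nil)))))))))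
theorem ycm : ∀ w ∈ yCg, (m m0 h0).Cm [[17]] (ev (m m0 h0).g w) := (m m0 h0).cm_of_pairs (all_take_done (all_take_step (all_take_zero _ (yCg.flatMap fun w => [[17]].map fun y => (w ++ y, y ++ w))) ((m m0 h0).pairs_of (base m0 h0 hb hc) (Model.via _ (mR m0 h0) (fun R => pairsB R [222, 1, 0] (((yCg.flatMap fun w => [[17]].map fun y => (w ++ y, y ++ w)).drop 0).take 3)) c112))) (by decide +kernel))
theorem yn5 : (m m0 h0).Sol [[17]] yCg [79530, 69367, 119390, 22, 10953, 65194, 102477, 54937, 39683] [79530, 69367, 119390, 22, 10953, 65194, 102477, 54937, 39683] := (m m0 h0).sol_done [1, 3, 5, 6, 7, 8] (((m m0 h0).chain_bot (ych_ok m0 h0) (hc.trans (by decide +kernel))).le.trans bot_le) (by decide +kernel)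
theorem yn4 : (m m0 h0).Sol [[17]] yCg [119390, 22, 10953, 65194, 102477, 54937, 39683] [119390, 22, 10953, 65194, 102477, 54937, 39683] := (m m0 h0).sol_free (ybdd m0 h0 hb hc) (ycm m0 h0 hb hc) (yot m0 h0 hb hc) ((m m0 h0).excl_zero _ _) (Model.via _ (mR m0 h0) (fun R => freeB R yOT [[17]] yCg [1, 3, 4, 5, 6] [119390, 22, 10953, 65194, 102477, 54937, 39683] [119390, 22, 10953, 65194, 102477, 54937, 39683] [] 69367 0 [([], 69367, 0)] [[2]] [0] yc75) c75) ((m m0 h0).solL_cons ((m m0 h0).sol_cyc [0] (Bc := [79530, 69367]) (T := [79530, 69367]) rfl (Model.via _ (mR m0 h0) (fun R => cycB R (subst [[17]] [0]) [79530, 69367]) c73) (Model.via _ (mR m0 h0) (fun R => cycB R (subst [[17]] [0]) [79530, 69367]) c74) (yn5 m0 h0 hb hc)) (m m0 h0).solL_nil)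
theorem yn3 : (m m0 h0).Sol [[17]] yCg [10953, 65194, 102477, 54937, 39683] [10953, 65194, 102477, 54937, 39683] := (m m0 h0).sol_free (ybdd m0 h0 hb hc) (ycm m0 h0 hb hc) (yot m0 h0 hb hc) ((m m0 h0).excl_zero _ _) (Model.via _ (mR m0 h0) (fun R => freeB R yOT [[17]] yCg [1, 2, 3, 4] [10953, 65194, 102477, 54937, 39683] [10953, 65194, 102477, 54937, 39683] [] 22 0 [([], 22, 1)] [[2], [0, 0, 0]] [1] yc77) c77) ((m m0 h0).solL_cons ((m m0 h0).sol_cyc [0] (Bc := [119390, 22]) (T := [119390, 22]) rfl (Model.via _ (mR m0 h0) (fun R => cycB R (subst [[17]] [0]) [119390, 22]) c72) (Model.via _ (mR m0 h0) (fun R => cycB R (subst [[17]] [0]) [119390, 22]) c76) (yn4 m0 h0 hb hc)) (m m0 h0).solL_nil)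
theorem yn2 : (m m0 h0).Sol [[17]] yCg [54937, 39683] [54937, 39683] := (m m0 h0).sol_free (ybdd m0 h0 hb hc) (ycm m0 h0 hb hc) (yot m0 h0 hb hc) ((m m0 h0).excl_mov (ybdd m0 h0 hb hc) [0, 0, 0] (Model.via _ (mR m0 h0) (fun R => exclB R (subst [[17]] [0, 0, 0]) 102477 yD2) c79)) (Model.via _ (mR m0 h0) (fun R => freeB R yOT [[17]] yCg [0, 1] [54937, 39683] [54937, 39683] [] 102477 yD2 [([], 102477, 2)] [[0], [2]] [0, 0] yc80) c80) ((m m0 h0).solL_cons ((m m0 h0).sol_cyc [0] (Bc := [10953, 65194, 102477]) (T := [10953, 65194, 102477]) rfl (Model.via _ (mR m0 h0) (fun R => cycB R (subst [[17]] [0]) [10953, 65194, 102477]) c71) (Model.via _ (mR m0 h0) (fun R => cycB R (subst [[17]] [0]) [10953, 65194, 102477]) c78) (yn3 m0 h0 hb hc)) (m m0 h0).solL_nil)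
theorem yn1 : (m m0 h0).Sol [[17]] yCg [39683] [39683] := (m m0 h0).sol_free (ybdd m0 h0 hb hc) (ycm m0 h0 hb hc) (yot m0 h0 hb hc) ((m m0 h0).excl_mov (ybdd m0 h0 hb hc) [0] (Model.via _ (mR m0 h0) (fun R => exclB R (subst [[17]] [0]) 54937 yD1) c82)) (Model.via _ (mR m0 h0) (fun R => freeB R yOT [[17]] yCg [0] [39683] [39683] [] 54937 yD1 [([], 54937, 3)] [[0], [2], [1, 1, 1]] [2] yc83) c83) ((m m0 h0).solL_cons ((m m0 h0).sol_cyc [] (Bc := [54937]) (T := [54937]) rfl (Model.via _ (mR m0 h0) (fun R => cycB R (subst [[17]] []) [54937]) c70) (Model.via _ (mR m0 h0) (fun R => cycB R (subst [[17]] []) [54937]) c81) (yn2 m0 h0 hb hc)) (m m0 h0).solL_nil)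
theorem yn8 : (m m0 h0).Sol [[17]] yCg [10953, 65194, 102477, 54937, 39683] [93989, 117135, 79748, 24275, 13035] := (m m0 h0).sol_free (ybdd m0 h0 hb hc) (ycm m0 h0 hb hc) (yot m0 h0 hb hc) ((m m0 h0).excl_zero _ _) (Model.via _ (mR m0 h0) (fun R => freeB R yOT [[17]] yCg [1, 2, 3, 4] [10953, 65194, 102477, 54937, 39683] [93989, 117135, 79748, 24275, 13035] [31, 32, 28, 28, 29, 28, 27, 27, 27, 27, 26, 26, 27, 27, 27, 26, 27, 26, 20, 20, 19, 19, 20, 20, 20, 19, 20, 20, 20, 19, 20, 20, 20, 20, 20] 22 0 [([], 22, 1)] [[2], [0, 0, 0]] [0] yc86) c86) ((m m0 h0).solL_leaves (yot m0 h0 hb hc) [0] (Bc := [119390, 22]) (Model.via _ (mR m0 h0) (fun R => cycB R (subst [[17]] [0]) [119390, 22]) c72) (Model.via _ (mR m0 h0) (fun R => allL (leafB R yOT (subst [[17]] [0]) [1, 3, 4, 5, 6] [119390, 22] [10953, 65194, 102477, 54937, 39683] [93989, 117135, 79748, 24275, 13035]) yL85) c85) (m m0 h0).solL_nil)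
theorem yn7 : (m m0 h0).Sol [[17]] yCg [54937, 39683] [24275, 13035] := (m m0 h0).sol_free (ybdd m0 h0 hb hc) (ycm m0 h0 hb hc) (yot m0 h0 hb hc) ((m m0 h0).excl_mov (ybdd m0 h0 hb hc) [0, 0, 0] (Model.via _ (mR m0 h0) (fun R => exclB R (subst [[17]] [0, 0, 0]) 102477 yD2) c79)) (Model.via _ (mR m0 h0) (fun R => freeB R yOT [[17]] yCg [0, 1] [54937, 39683] [24275, 13035] [27, 27, 27, 27, 26, 26, 27, 27, 27, 26, 27, 26, 20, 20, 19, 19, 20, 20, 20, 19, 20, 20, 20, 19, 20, 20, 20, 20, 20] 102477 yD2 [([], 102477, 2)] [[0], [2]] [0, 0] yc88) c88) ((m m0 h0).solL_cons ((m m0 h0).sol_cyc [0] (Bc := [10953, 65194, 102477]) (T := [93989, 117135, 79748]) rfl (Model.via _ (mR m0 h0) (fun R => cycB R (subst [[17]] [0]) [10953, 65194, 102477]) c71) (Model.via _ (mR m0 h0) (fun R => cycB R (subst [[17]] [0]) [93989, 117135, 79748]) c87) (yn8 m0 h0 hb hc)) (m m0 h0).solL_nil)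
theorem yn11 : (m m0 h0).Sol [[17]] yCg [119390, 22, 10953, 65194, 102477, 54937, 39683] [36193, 11697, 102477, 10953, 65194, 42761, 13035] := (m m0 h0).sol_free (ybdd m0 h0 hb hc) (ycm m0 h0 hb hc) (yot m0 h0 hb hc) ((m m0 h0).excl_zero _ _) (Model.via _ (mR m0 h0) (fun R => freeB R yOT [[17]] yCg [1, 3, 4, 5, 6] [119390, 22, 10953, 65194, 102477, 54937, 39683] [36193, 11697, 102477, 10953, 65194, 42761, 13035] [28, 26, 27, 26, 27, 27, 27, 27, 26, 27, 26, 26, 20, 20, 19, 19, 20, 20, 20, 19, 20, 20, 20, 19, 20, 20, 20, 20, 20] 69367 0 [([], 69367, 0)] [[2]] [0] yc91) c91) ((m m0 h0).solL_leaves (yot m0 h0 hb hc) [0] (Bc := [79530, 69367]) (Model.via _ (mR m0 h0) (fun R => cycB R (subst [[17]] [0]) [79530, 69367]) c73) (Model.via _ (mR m0 h0) (fun R => allL (leafB R yOT (subst [[17]] [0]) [1, 3, 5, 6, 7, 8] [79530, 69367] [119390, 22, 10953, 65194, 102477, 54937, 39683] [36193, 11697, 102477, 10953, 65194, 42761, 13035]) yL90) c90)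 (m m0 h0).solL_nil)
theorem yn10 : (m m0 h0).Sol [[17]] yCg [10953, 65194, 102477, 54937, 39683] [102477, 10953, 65194, 42761, 13035] := (m m0 h0).sol_free (ybdd m0 h0 hb hc) (ycm m0 h0 hb hc) (yot m0 h0 hb hc) ((m m0 h0).excl_zero _ _) (Model.via _ (mR m0 h0) (fun R => freeB R yOT [[17]] yCg [1, 2, 3, 4] [10953, 65194, 102477, 54937, 39683] [102477, 10953, 65194, 42761, 13035] [28, 26, 27, 26, 27, 27, 27, 27, 26, 27, 26, 26, 20, 20, 19, 19, 20, 20, 20, 19, 20, 20, 20, 19, 20, 20, 20, 20, 20] 22 0 [([], 22, 1)] [[2], [0, 0, 0]] [1] yc93) c93) ((m m0 h0).solL_cons ((m m0 h0).sol_cyc [0] (Bc := [119390, 22]) (T := [36193, 11697]) rfl (Model.via _ (mR m0 h0) (fun R => cycB R (subst [[17]] [0]) [119390, 22]) c72) (Model.via _ (mR m0 h0) (fun R => cycB R (subst [[17]] [0]) [36193, 11697]) c92) (yn11 m0 h0 hb hc)) (m m0 h0).solL_nil)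
theorem yn9 : (m m0 h0).Sol [[17]] yCg [54937, 39683] [42761, 13035] := (m m0 h0).sol_free (ybdd m0 h0 hb hc) (ycm m0 h0 hb hc) (yot m0 h0 hb hc) ((m m0 h0).excl_zero _ _) (Model.via _ (mR m0 h0) (fun R => freeB R yOT [[17]] yCg [0, 1] [54937, 39683] [42761, 13035] [26, 27, 26, 27, 27, 27, 27, 26, 27, 26, 26, 20, 20, 19, 19, 20, 20, 20, 19, 20, 20, 20, 19, 20, 20, 20, 20, 20] 102477 0 [([], 102477, 2)] [[0], [2]] [0, 1, 0] yc97) c97) ((m m0 h0).solL_leaves (yot m0 h0 hb hc) [0] (Bc := [10953, 65194, 102477]) (Model.via _ (mR m0 h0) (fun R => cycB R (subst [[17]] [0]) [10953, 65194, 102477]) c71) (Model.via _ (mR m0 h0) (fun R => allL (leafB R yOT (subst [[17]] [0]) [1, 2, 3, 4] [10953, 65194, 102477] [54937, 39683] [42761, 13035]) yL96) c96) ((m m0 h0).solL_leaves (yot m0 h0 hb hc) [0] (Bc := [10953, 65194, 102477]) (Model.via _ (mR m0 h0) (fun R => cycB R (subst [[17]] [0]) [10953, 65194, 102477]) c71) (Model.via _ (mR m0 h0) (fun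 R => allL (leafB R yOT (subst [[17]] [0]) [1, 2, 3, 4] [10953, 65194, 102477] [54937, 39683] [42761, 13035]) yL95) c95) ((m m0 h0).solL_cons ((m m0 h0).sol_cyc [0] (Bc := [10953, 65194, 102477]) (T := [102477, 10953, 65194]) rfl (Model.via _ (mR m0 h0) (fun R => cycB R (subst [[17]] [0]) [10953, 65194, 102477]) c71) (Model.via _ (mR m0 h0) (fun R => cycB R (subst [[17]] [0]) [102477, 10953, 65194]) c94) (yn10 m0 h0 hb hc)) (m m0 h0).solL_nil)))
theorem yn6 : (m m0 h0).Sol [[17]] yCg [39683] [13035] := (m m0 h0).sol_free (ybdd m0 h0 hb hc) (ycm m0 h0 hb hc) (yot m0 h0 hb hc) ((m m0 h0).excl_mov (ybdd m0 h0 hb hc) [0] (Model.via _ (mR m0 h0) (fun R => exclB R (subst [[17]] [0]) 54937 yD1) c82)) (Model.via _ (mR m0 h0) (fun R => freeB R yOT [[17]] yCg [0] [39683] [13035] [20, 20, 19, 19, 20, 20, 20, 19, 20, 20, 20, 19, 20, 20, 20, 20, 20] 54937 yD1 [([], 54937, 3)] [[0], [2]] [] yc99) c99) ((m m0 h0).solL_cons ((m m0 h0).sol_cyc [] (Bc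 := [54937]) (T := [42761]) rfl (Model.via _ (mR m0 h0) (fun R => cycB R (subst [[17]] []) [54937]) c70) (Model.via _ (mR m0 h0) (fun R => cycB R (subst [[17]] []) [42761]) c98) (yn9 m0 h0 hb hc)) ((m m0 h0).solL_cons ((m m0 h0).sol_cyc [] (Bc := [54937]) (T := [24275]) rfl (Model.via _ (mR m0 h0) (fun R => cycB R (subst [[17]] []) [54937]) c70) (Model.via _ (mR m0 h0) (fun R => cycB R (subst [[17]] []) [24275]) c89) (yn7 m0 h0 hb hc)) (m m0 h0).solL_nil))
theorem yn0 : (m m0 h0).Sol [[17]] yCg [] [] := (m m0 h0).sol_free (ybdd m0 h0 hb hc) (ycm m0 h0 hb hc) (yot m0 h0 hb hc) ((m m0 h0).excl_mov (ybdd m0 h0 hb hc) [0] (Model.via _ (mR m0 h0) (fun R => exclB R (subst [[17]] [0]) 39683 yD0) c101)) (Model.via _ (mR m0 h0) (fun R => freeB R yOT [[17]] yCg [] [] [] [] 39683 yD0 [([], 39683, 8)] [[0], [1], [2]] [1, 1, 1, 1, 1] yc102) c102) ((m m0 h0).solL_cons ((m m0 h0).sol_cyc [] (Bc := [39683]) (T := [13035]) rfl (Model.via _ (mR m0 h0)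 (fun R => cycB R (subst [[17]] []) [39683]) c69) (Model.via _ (mR m0 h0) (fun R => cycB R (subst [[17]] []) [13035]) c100) (yn6 m0 h0 hb hc)) ((m m0 h0).solL_cons ((m m0 h0).sol_cyc [] (Bc := [39683]) (T := [39683]) rfl (Model.via _ (mR m0 h0) (fun R => cycB R (subst [[17]] []) [39683]) c69) (Model.via _ (mR m0 h0) (fun R => cycB R (subst [[17]] []) [39683]) c84) (yn1 m0 h0 hb hc)) (m m0 h0).solL_nil))
theorem ysol : (m m0 h0).Sol [[17]] yCg [] [] := yn0 m0 h0 hb hc
theorem inj : Function.Injective (m m0 h0).φ := (m m0 h0).inj_of_base (base m0 h0 hb hc)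
theorem gtop : gen (m m0 h0).g ([16, 17, 18].map fun x => [x]) = ⊤ :=
  top_of_marks ((m m0 h0).defsOK_g (inj m0 h0 hb hc) ((mR m0 h0).symm ▸ defs_ok)) _ (xtop m0 h0 hb hc) (by decide +kernel)
theorem cl : ∀ k ∈ Subgroup.centralizer {ev (m m0 h0).g [17]}, ∃ w ∈ CL, k = ev (m m0 h0).g w := fun k hk =>
  list_closed (all_take_done (all_take_step (all_take_step (all_take_step (all_take_step (all_take_step (all_take_step (all_take_step (all_take_step (all_take_step (all_take_step (all_take_step (all_take_step (all_take_step (all_take_step (all_take_step (all_take_step (all_take_step (all_take_step (all_take_step (all_take_step (all_take_step (all_take_step (all_take_step (all_take_step (all_take_step (all_take_step (all_take_step (all_take_step (all_take_step (all_take_step (all_take_step (all_take_step (all_take_step (all_take_step (all_take_step (all_take_step (all_take_zero _ CE) ((m m0 h0).pairs_of (base m0 h0 hb hc) (Model.via _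 (mR m0 h0) (fun R => pairsB R [222, 1, 0] ((CE.drop 0).take 12)) c113))) ((m m0 h0).pairs_of (base m0 h0 hb hc) (Model.via _ (mR m0 h0) (fun R => pairsB R [222, 1, 0] ((CE.drop 12).take 8)) c114))) ((m m0 h0).pairs_of (base m0 h0 hb hc) (Model.via _ (mR m0 h0) (fun R => pairsB R [222, 1, 0] ((CE.drop 20).take 7)) c115))) ((m m0 h0).pairs_of (base m0 h0 hb hc) (Model.via _ (mR m0 h0) (fun R => pairsB R [222, 1, 0] ((CE.drop 27).take 7)) c116))) ((m m0 h0).pairs_of (base m0 h0 hb hc) (Model.via _ (mR m0 h0) (fun R => pairsB R [222, 1, 0] ((CE.drop 34).take 6)) c117))) ((m m0 h0).pairs_of (base m0 h0 hb hc) (Model.via _ (mR m0 h0) (fun R => pairsB R [222, 1, 0] ((CE.drop 40).take 5)) c118))) ((m m0 h0).pairs_of (base m0 h0 hb hc) (Model.via _ (mR m0 h0) (fun R => pairsB R [222, 1, 0] ((CE.drop 45).take 6)) c119))) ((m m0 h0).pairs_of (base m0 h0 hb hc) (Model.via _ (mR m0 h0) (fun R => pairsB R [222, 1, 0] ((CE.drop 51).take 5)) c120)))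 ((m m0 h0).pairs_of (base m0 h0 hb hc) (Model.via _ (mR m0 h0) (fun R => pairsB R [222, 1, 0] ((CE.drop 56).take 4)) c121))) ((m m0 h0).pairs_of (base m0 h0 hb hc) (Model.via _ (mR m0 h0) (fun R => pairsB R [222, 1, 0] ((CE.drop 60).take 5)) c122))) ((m m0 h0).pairs_of (base m0 h0 hb hc) (Model.via _ (mR m0 h0) (fun R => pairsB R [222, 1, 0] ((CE.drop 65).take 4)) c123))) ((m m0 h0).pairs_of (base m0 h0 hb hc) (Model.via _ (mR m0 h0) (fun R => pairsB R [222, 1, 0] ((CE.drop 69).take 8)) c124))) ((m m0 h0).pairs_of (base m0 h0 hb hc) (Model.via _ (mR m0 h0) (fun R => pairsB R [222, 1, 0] ((CE.drop 77).take 10)) c125))) ((m m0 h0).pairs_of (base m0 h0 hb hc) (Model.via _ (mR m0 h0) (fun R => pairsB R [222, 1, 0] ((CE.drop 87).take 8)) c126))) ((m m0 h0).pairs_of (base m0 h0 hb hc) (Model.via _ (mR m0 h0) (fun R => pairsB R [222, 1, 0] ((CE.drop 95).take 6)) c127))) ((m m0 h0).pairs_of (base m0 h0 hb hc) (Model.via _ (mR m0 h0) (fun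 R => pairsB R [222, 1, 0] ((CE.drop 101).take 6)) c128))) ((m m0 h0).pairs_of (base m0 h0 hb hc) (Model.via _ (mR m0 h0) (fun R => pairsB R [222, 1, 0] ((CE.drop 107).take 5)) c129))) ((m m0 h0).pairs_of (base m0 h0 hb hc) (Model.via _ (mR m0 h0) (fun R => pairsB R [222, 1, 0] ((CE.drop 112).take 6)) c130))) ((m m0 h0).pairs_of (base m0 h0 hb hc) (Model.via _ (mR m0 h0) (fun R => pairsB R [222, 1, 0] ((CE.drop 118).take 5)) c131))) ((m m0 h0).pairs_of (base m0 h0 hb hc) (Model.via _ (mR m0 h0) (fun R => pairsB R [222, 1, 0] ((CE.drop 123).take 5)) c132))) ((m m0 h0).pairs_of (base m0 h0 hb hc) (Model.via _ (mR m0 h0) (fun R => pairsB R [222, 1, 0] ((CE.drop 128).take 5)) c133))) ((m m0 h0).pairs_of (base m0 h0 hb hc) (Model.via _ (mR m0 h0) (fun R => pairsB R [222, 1, 0] ((CE.drop 133).take 4)) c134))) ((m m0 h0).pairs_of (base m0 h0 hb hc) (Model.via _ (mR m0 h0) (fun R => pairsB R [222, 1, 0] ((CE.drop 137).take 4)) c135))) ((m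 m0 h0).pairs_of (base m0 h0 hb hc) (Model.via _ (mR m0 h0) (fun R => pairsB R [222, 1, 0] ((CE.drop 141).take 8)) c136))) ((m m0 h0).pairs_of (base m0 h0 hb hc) (Model.via _ (mR m0 h0) (fun R => pairsB R [222, 1, 0] ((CE.drop 149).take 10)) c137))) ((m m0 h0).pairs_of (base m0 h0 hb hc) (Model.via _ (mR m0 h0) (fun R => pairsB R [222, 1, 0] ((CE.drop 159).take 8)) c138))) ((m m0 h0).pairs_of (base m0 h0 hb hc) (Model.via _ (mR m0 h0) (fun R => pairsB R [222, 1, 0] ((CE.drop 167).take 7)) c139))) ((m m0 h0).pairs_of (base m0 h0 hb hc) (Model.via _ (mR m0 h0) (fun R => pairsB R [222, 1, 0] ((CE.drop 174).take 6)) c140))) ((m m0 h0).pairs_of (base m0 h0 hb hc) (Model.via _ (mR m0 h0) (fun R => pairsB R [222, 1, 0] ((CE.drop 180).take 6)) c141))) ((m m0 h0).pairs_of (base m0 h0 hb hc) (Model.via _ (mR m0 h0) (fun R => pairsB R [222, 1, 0] ((CE.drop 186).take 6)) c142))) ((m m0 h0).pairs_of (base m0 h0 hb hc) (Model.via _ (mR m0 h0) (fun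 R => pairsB R [222, 1, 0] ((CE.drop 192).take 5)) c143))) ((m m0 h0).pairs_of (base m0 h0 hb hc) (Model.via _ (mR m0 h0) (fun R => pairsB R [222, 1, 0] ((CE.drop 197).take 5)) c144))) ((m m0 h0).pairs_of (base m0 h0 hb hc) (Model.via _ (mR m0 h0) (fun R => pairsB R [222, 1, 0] ((CE.drop 202).take 4)) c145))) ((m m0 h0).pairs_of (base m0 h0 hb hc) (Model.via _ (mR m0 h0) (fun R => pairsB R [222, 1, 0] ((CE.drop 206).take 4)) c146))) ((m m0 h0).pairs_of (base m0 h0 hb hc) (Model.via _ (mR m0 h0) (fun R => pairsB R [222, 1, 0] ((CE.drop 210).take 4)) c147))) ((m m0 h0).pairs_of (base m0 h0 hb hc) (Model.via _ (mR m0 h0) (fun R => pairsB R [222, 1, 0] ((CE.drop 214).take 2)) c148))) (by decide +kernel)) (by decide +kernel) k ((m m0 h0).cent_le (ysol m0 h0 hb hc) hk)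
theorem ocl : (m m0 h0).OutCl 16 17 18 [(1, []), (1, [37, 36, 36, 36])] :=
  (m m0 h0).outCl (r := 19) (t := 8) (s := 6) (e := 1) (n := 5) (K := [1, 2, 4]) (RL := RL) (EL := EL) hc (by decide +kernel) (by decide +kernel)
    (all_take_done (all_take_step (all_take_step (all_take_zero _ (Model.outE 16 17 18 [17] 19 8 1 5 RL)) ((m m0 h0).pairs_of (base m0 h0 hb hc) (Model.via _ (mR m0 h0) (fun R => pairsB R [222, 1, 0] (((Model.outE 16 17 18 [17] 19 8 1 5 RL).drop 0).take 6)) c149))) ((m m0 h0).pairs_of (base m0 h0 hb hc) (Model.via _ (mR m0 h0) (fun R => pairsB R [222, 1, 0] (((Model.outE 16 17 18 [17] 19 8 1 5 RL).drop 6).take 1)) c150))) (by decide +kernel)) ((m m0 h0).ne_of_neB (Model.via _ (mR m0 h0) (fun R => neB R [16] [] 0 41838 0) c151)) (xsol m0 h0 hb hc) (cl m0 h0 hb hc)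
    (by decide +kernel) (by decide +kernel) (all_take_done (all_take_step (all_take_step (all_take_step (all_take_step (all_take_step (all_take_step (all_take_step (all_take_step (all_take_step (all_take_step (all_take_step (all_take_step (all_take_step (all_take_step (all_take_step (all_take_step (all_take_step (all_take_step (all_take_step (all_take_step (all_take_step (all_take_step (all_take_step (all_take_step (all_take_step (all_take_step (all_take_step (all_take_step (all_take_step (all_take_step (all_take_step (all_take_step (all_take_step (all_take_step (all_take_step (all_take_step (all_take_step (all_take_step (all_take_step (all_take_step (all_take_step (all_take_step (all_take_step (all_take_step (all_take_step (all_take_zero _ EL) (allL_spec (Model.via _ (mR m0 h0) (fun R => allL (elimB R 16 17 18 RL [(1, []), (1, [37, 36, 36, 36])]) ((EL.drop 0).take 10)) c152))) (allL_spec (Model.via _ (mR m0 h0) (fun R => allL (elimB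 R 16 17 18 RL [(1, []), (1, [37, 36, 36, 36])]) ((EL.drop 10).take 8)) c153))) (allL_spec (Model.via _ (mR m0 h0) (fun R => allL (elimB R 16 17 18 RL [(1, []), (1, [37, 36, 36, 36])]) ((EL.drop 18).take 6)) c154))) (allL_spec (Model.via _ (mR m0 h0) (fun R => allL (elimB R 16 17 18 RL [(1, []), (1, [37, 36, 36, 36])]) ((EL.drop 24).take 8)) c155))) (allL_spec (Model.via _ (mR m0 h0) (fun R => allL (elimB R 16 17 18 RL [(1, []), (1, [37, 36, 36, 36])]) ((EL.drop 32).take 5)) c156))) (allL_spec (Model.via _ (mR m0 h0) (fun R => allL (elimB R 16 17 18 RL [(1, []), (1, [37, 36, 36, 36])]) ((EL.drop 37).take 5)) c157))) (allL_spec (Model.via _ (mR m0 h0) (fun R => allL (elimB R 16 17 18 RL [(1, []), (1, [37, 36, 36, 36])]) ((EL.drop 42).take 6)) c158))) (allL_spec (Model.via _ (mR m0 h0) (fun R => allL (elimB R 16 17 18 RL [(1, []), (1, [37, 36, 36, 36])]) ((EL.drop 48).take 5)) c159))) (allL_spec (Model.via _ (mR m0 h0) (fun R => allL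 (elimB R 16 17 18 RL [(1, []), (1, [37, 36, 36, 36])]) ((EL.drop 53).take 5)) c160))) (allL_spec (Model.via _ (mR m0 h0) (fun R => allL (elimB R 16 17 18 RL [(1, []), (1, [37, 36, 36, 36])]) ((EL.drop 58).take 5)) c161))) (allL_spec (Model.via _ (mR m0 h0) (fun R => allL (elimB R 16 17 18 RL [(1, []), (1, [37, 36, 36, 36])]) ((EL.drop 63).take 4)) c162))) (allL_spec (Model.via _ (mR m0 h0) (fun R => allL (elimB R 16 17 18 RL [(1, []), (1, [37, 36, 36, 36])]) ((EL.drop 67).take 5)) c163))) (allL_spec (Model.via _ (mR m0 h0) (fun R => allL (elimB R 16 17 18 RL [(1, []), (1, [37, 36, 36, 36])]) ((EL.drop 72).take 8)) c164))) (allL_spec (Model.via _ (mR m0 h0) (fun R => allL (elimB R 16 17 18 RL [(1, []), (1, [37, 36, 36, 36])]) ((EL.drop 80).take 6)) c165))) (allL_spec (Model.via _ (mR m0 h0) (fun R => allL (elimB R 16 17 18 RL [(1, []), (1, [37, 36, 36, 36])]) ((EL.drop 86).take 6)) c166))) (allL_spec (Model.via _ (mR m0 h0) (fun R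 => allL (elimB R 16 17 18 RL [(1, []), (1, [37, 36, 36, 36])]) ((EL.drop 92).take 4)) c167))) (allL_spec (Model.via _ (mR m0 h0) (fun R => allL (elimB R 16 17 18 RL [(1, []), (1, [37, 36, 36, 36])]) ((EL.drop 96).take 6)) c168))) (allL_spec (Model.via _ (mR m0 h0) (fun R => allL (elimB R 16 17 18 RL [(1, []), (1, [37, 36, 36, 36])]) ((EL.drop 102).take 4)) c169))) (allL_spec (Model.via _ (mR m0 h0) (fun R => allL (elimB R 16 17 18 RL [(1, []), (1, [37, 36, 36, 36])]) ((EL.drop 106).take 5)) c170))) (allL_spec (Model.via _ (mR m0 h0) (fun R => allL (elimB R 16 17 18 RL [(1, []), (1, [37, 36, 36, 36])]) ((EL.drop 111).take 5)) c171))) (allL_spec (Model.via _ (mR m0 h0) (fun R => allL (elimB R 16 17 18 RL [(1, []), (1, [37, 36, 36, 36])]) ((EL.drop 116).take 4)) c172))) (allL_spec (Model.via _ (mR m0 h0) (fun R => allL (elimB R 16 17 18 RL [(1, []), (1, [37, 36, 36, 36])]) ((EL.drop 120).take 3)) c173))) (allL_spec (Model.via _ (mR m0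 h0) (fun R => allL (elimB R 16 17 18 RL [(1, []), (1, [37, 36, 36, 36])]) ((EL.drop 123).take 5)) c174))) (allL_spec (Model.via _ (mR m0 h0) (fun R => allL (elimB R 16 17 18 RL [(1, []), (1, [37, 36, 36, 36])]) ((EL.drop 128).take 4)) c175))) (allL_spec (Model.via _ (mR m0 h0) (fun R => allL (elimB R 16 17 18 RL [(1, []), (1, [37, 36, 36, 36])]) ((EL.drop 132).take 4)) c176))) (allL_spec (Model.via _ (mR m0 h0) (fun R => allL (elimB R 16 17 18 RL [(1, []), (1, [37, 36, 36, 36])]) ((EL.drop 136).take 4)) c177))) (allL_spec (Model.via _ (mR m0 h0) (fun R => allL (elimB R 16 17 18 RL [(1, []), (1, [37, 36, 36, 36])]) ((EL.drop 140).take 5)) c178))) (allL_spec (Model.via _ (mR m0 h0) (fun R => allL (elimB R 16 17 18 RL [(1, []), (1, [37, 36, 36, 36])]) ((EL.drop 145).take 6)) c179))) (allL_spec (Model.via _ (mR m0 h0) (fun R => allL (elimB R 16 17 18 RL [(1, []), (1, [37, 36, 36, 36])]) ((EL.drop 151).take 5)) c180))) (allL_spec (Model.via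 _ (mR m0 h0) (fun R => allL (elimB R 16 17 18 RL [(1, []), (1, [37, 36, 36, 36])]) ((EL.drop 156).take 5)) c181))) (allL_spec (Model.via _ (mR m0 h0) (fun R => allL (elimB R 16 17 18 RL [(1, []), (1, [37, 36, 36, 36])]) ((EL.drop 161).take 5)) c182))) (allL_spec (Model.via _ (mR m0 h0) (fun R => allL (elimB R 16 17 18 RL [(1, []), (1, [37, 36, 36, 36])]) ((EL.drop 166).take 4)) c183))) (allL_spec (Model.via _ (mR m0 h0) (fun R => allL (elimB R 16 17 18 RL [(1, []), (1, [37, 36, 36, 36])]) ((EL.drop 170).take 4)) c184))) (allL_spec (Model.via _ (mR m0 h0) (fun R => allL (elimB R 16 17 18 RL [(1, []), (1, [37, 36, 36, 36])]) ((EL.drop 174).take 3)) c185))) (allL_spec (Model.via _ (mR m0 h0) (fun R => allL (elimB R 16 17 18 RL [(1, []), (1, [37, 36, 36, 36])]) ((EL.drop 177).take 4)) c186))) (allL_spec (Model.via _ (mR m0 h0) (fun R => allL (elimB R 16 17 18 RL [(1, []), (1, [37, 36, 36, 36])]) ((EL.drop 181).take 4)) c187))) (allL_spec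 (Model.via _ (mR m0 h0) (fun R => allL (elimB R 16 17 18 RL [(1, []), (1, [37, 36, 36, 36])]) ((EL.drop 185).take 4)) c188))) (allL_spec (Model.via _ (mR m0 h0) (fun R => allL (elimB R 16 17 18 RL [(1, []), (1, [37, 36, 36, 36])]) ((EL.drop 189).take 4)) c189))) (allL_spec (Model.via _ (mR m0 h0) (fun R => allL (elimB R 16 17 18 RL [(1, []), (1, [37, 36, 36, 36])]) ((EL.drop 193).take 4)) c190))) (allL_spec (Model.via _ (mR m0 h0) (fun R => allL (elimB R 16 17 18 RL [(1, []), (1, [37, 36, 36, 36])]) ((EL.drop 197).take 4)) c191))) (allL_spec (Model.via _ (mR m0 h0) (fun R => allL (elimB R 16 17 18 RL [(1, []), (1, [37, 36, 36, 36])]) ((EL.drop 201).take 4)) c192))) (allL_spec (Model.via _ (mR m0 h0) (fun R => allL (elimB R 16 17 18 RL [(1, []), (1, [37, 36, 36, 36])]) ((EL.drop 205).take 3)) c193))) (allL_spec (Model.via _ (mR m0 h0) (fun R => allL (elimB R 16 17 18 RL [(1, []), (1, [37, 36, 36, 36])]) ((EL.drop 208).take 3)) c194)))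 (allL_spec (Model.via _ (mR m0 h0) (fun R => allL (elimB R 16 17 18 RL [(1, []), (1, [37, 36, 36, 36])]) ((EL.drop 211).take 2)) c195))) (allL_spec (Model.via _ (mR m0 h0) (fun R => allL (elimB R 16 17 18 RL [(1, []), (1, [37, 36, 36, 36])]) ((EL.drop 213).take 3)) c196))) (by decide +kernel))
theorem arel : ∀ r ∈ H0.MON.B.map (subst [[38], [39], [40], [41], [42], [43], [44], [45]]), ev (m m0 h0).g r = 1 := fun r hr =>
  (all_take_done (all_take_step (all_take_step (all_take_step (all_take_zero _ ((H0.MON.B.map (subst [[38], [39], [40], [41], [42], [43], [44], [45]])).map fun r => (r, []))) ((m m0 h0).pairs_of (base m0 h0 hb hc) (Model.via _ (mR m0 h0) (fun R => pairsB R [222, 1, 0] ((((H0.MON.B.map (subst [[38], [39], [40], [41], [42], [43], [44], [45]])).map fun r => (r, [])).drop 0).take 17)) c198))) ((m m0 h0).pairs_of (base m0 h0 hb hc) (Model.via _ (mR m0 h0) (fun R => pairsB R [222, 1, 0] ((((H0.MON.B.map (subst [[38], [39],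 [40], [41], [42], [43], [44], [45]])).map fun r => (r, [])).drop 17).take 9)) c199))) ((m m0 h0).pairs_of (base m0 h0 hb hc) (Model.via _ (mR m0 h0) (fun R => pairsB R [222, 1, 0] ((((H0.MON.B.map (subst [[38], [39], [40], [41], [42], [43], [44], [45]])).map fun r => (r, [])).drop 26).take 4)) c200))) (by decide +kernel)) (r, []) (List.mem_map_of_mem hr)
theorem fpf : Model.fpfB (m m0 h0).R [4, 5] (subst [[38], [39], [40], [41], [42], [43], [44], [45]] [4, 5]) 0 122760 = true := (Model.via _ (mR m0 h0) (fun R => Model.fpfB R [4, 5] (subst [[38], [39], [40], [41], [42], [43], [44], [45]] [4, 5]) 0 122760) c197)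
theorem ninv : (m m0 h0).Inv ⊤ (ival 0 122760) := xtop m0 h0 hb hc ▸ (m m0 h0).inv_of_invB (Model.via _ (mR m0 h0) (fun R => Model.invB R (Model.cgens xch) (ival 0 122760)) c201)
omit hb hc in
theorem geq {x : ℕ} (h : x < 8) : (m m0 h0).g x = m0.g x := m0.ext_g h0 _ _ _ _ _ _ _ (by omega)
theorem out (h : ∃ α, α ∉ Cfsg.Inn G) : Nat.card (Cfsg.Out G) = 2 := (m m0 h0).out_two (gtop m0 h0 hb hc) (ocl m0 h0 hb hc) h
end H0.OON
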